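import Cfsg.Agent.H906.Cover_m3
import Cfsg.Agent.H912.CrossList_m3
import Cfsg.Agent.H175.BdSp_m3
import Cfsg.Agent.FastGrp
import Cfsg.Agent.Prune
set_option linter.all false
prune_inst 0x7f00000000000000000000000000000000000000000000000000000000000000000000000000000000000000000000000000000000000000000000000000000000000000000000000000000000000000003fffffffffffffffffffffffffffbeffbdffffffff
open scoped Cfsg.Agent.FastGrp

/-!
# Degrees of the sporadic groups: the interface (helper489)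

* `bd_ext` : `z` of prime order `r`, `y z y⁻¹ = z ^ k` with `k ^ i ≠ 1` modulo `r` for `0 < i < m`, `a`, `b` commute with
  `z`, `a ^ r ^ j = 1`, `[a, b] = z`: bound `m * r`;
* `le_of_bd` : a bound for the subgroups `P` with `Core P`, `Soc P ≃* T`, from the multiplier of `T`.
-/

set_option autoImplicit false

universe u v w

namespace Cfsg.Agent.H489.Deg

open Cfsg.Agent.H912.Bd Cfsg.Agent.H921.Spor Cfsg.Agent.H915.LD
open Matrix (GeneralLinearGroup)

section

variable {F : Type u} [Field F] {r : ℕ} {T : Type v} [Group T]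

/-- **An extraspecial group of order `r³` with fusion in its centre.** -/
theorem bd_ext (hr : r.Prime) (hrF : (r : F) ≠ 0) {a b y z : T} (hz1 : z ≠ 1) (hzr : z ^ r = 1)
    {k : ℕ} (hy : y * z * y⁻¹ = z ^ k) (haz : a * z = z * a) (hbz : b * z = z * b) {j : ℕ} (ha : a ^ r ^ j = 1)
    (hab : a * b * a⁻¹ * b⁻¹ = z) (m : ℕ) (hk : ∀ i < m, 0 < i → k ^ i % r ≠ 1 % r) : Bd F r (m * r) T := by
  classical
  have : Fact r.Prime := ⟨hr⟩
  have hz : orderOf z = r := orderOf_eq_prime hzr hz1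
  have hfx : IsOfFinOrder z := orderOf_pos_iff.1 (by rw [hz]; exact hr.pos)
  have hfz : Finite (Subgroup.zpowers z) := hfx.finite_zpowers
  have hinj : Set.InjOn (fun i : ℕ => y ^ i) (Finset.range m : Set ℕ) := by
    intro i hi j hj hij
    simp only [Finset.coe_range, Set.mem_Iio] at hi hj hij
    by_contra hne
    obtain ⟨e, -, he⟩ := diff_of_prime hr hz hy hk hi hj hne
    rw [hij, mul_inv_cancel] at he
    exact hz1 he.symm
  -- the powers of `y` act differently on every nontrivial power of `z`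
  have key : ∀ i j : ℕ, i < m → j < m → i ≠ j → ∀ l : ℕ, y ^ i * z ^ l * (y ^ i)⁻¹ = y ^ j * z ^ l * (y ^ j)⁻¹ →
      z ^ l = 1 := by
    have aux : ∀ i j : ℕ, i < j → j < m → ∀ l : ℕ, y ^ i * z ^ l * (y ^ i)⁻¹ = y ^ j * z ^ l * (y ^ j)⁻¹ →
        z ^ l = 1 := by
      intro i j hij hj l h
      rw [pow_conj hy, pow_conj hy] at h
      have h1 : l * k ^ i ≡ l * k ^ j [MOD r] := by rw [← hz]; exact pow_eq_pow_iff_modEq.1 h
      by_contra hne
      have h2 : r.gcd l = 1 := by
        rw [← Nat.coprime_iff_gcd_eq_one]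
        refine (Nat.Prime.coprime_iff_not_dvd hr).2 fun hd => hne ?_
        rw [← orderOf_dvd_iff_pow_eq_one, hz]
        exact hd
      have h3 : k ^ i ≡ k ^ j [MOD r] := Nat.ModEq.cancel_left_of_coprime h2 h1
      have hkr : r.gcd (k ^ i) = 1 := by
        rw [← Nat.coprime_iff_gcd_eq_one]
        refine Nat.Coprime.pow_right i ((Nat.Prime.coprime_iff_not_dvd hr).2 fun hd => ?_)
        obtain ⟨c, hc⟩ := hd
        have h4 : y * z * y⁻¹ = 1 := by rw [hy, hc, pow_mul, hzr, one_pow]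
        apply hz1
        have h5 : z = y⁻¹ * (y * z * y⁻¹) * y := by group
        rw [h5, h4]; group
      have h4 : k ^ i * 1 ≡ k ^ i * k ^ (j - i) [MOD r] := by
        rw [mul_one, ← pow_add]
        have : i + (j - i) = j := by omega
        rw [this]; exact h3
      have h5 := Nat.ModEq.cancel_left_of_coprime hkr h4
      exact hk (j - i) (by omega) (by omega) h5.symm
    intro i j hi hj hij l h
    rcases lt_trichotomy i j with h1 | h1 | h1
    · exact aux i j h1 hj l h
    · exact absurd h1 hij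
    · exact aux j i h1 hi l h.symm
  have hmem : ∀ e ∈ Subgroup.zpowers z, ∃ l : ℕ, z ^ l = e := fun e he =>
    (hfx.mem_powers_iff_mem_zpowers.2 he)
  have hcz : ∀ {c : T}, c * z = z * c → ∀ e ∈ Subgroup.zpowers z, c * e = e * c := by
    intro c hc e he
    obtain ⟨l, rfl⟩ := hmem e he
    exact ((show Commute c z from hc).pow_right l).eq
  have h := bd_of_free_ext (F := F) hr hrF (Subgroup.zpowers z)
    (fun x hx w hw => by
      obtain ⟨l, rfl⟩ := hmem x hx
      obtain ⟨l', rfl⟩ := hmem w hw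
      rw [← pow_add, ← pow_add, add_comm])
    (IsPGroup.of_card (n := 1) (by rw [Nat.card_zpowers, hz, pow_one]))
    ((Finset.range m).image (fun i => y ^ i))
    (by
      intro s hs e he
      obtain ⟨i, -, rfl⟩ := Finset.mem_image.1 hs
      obtain ⟨l, rfl⟩ := hmem e he
      rw [pow_conj hy]
      exact Subgroup.pow_mem _ (Subgroup.mem_zpowers z) _)
    (by
      intro s hs t ht hst e he heq
      obtain ⟨i, hi, rfl⟩ := Finset.mem_image.1 hs
      obtain ⟨j, hj, rfl⟩ := Finset.mem_image.1 ht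
      obtain ⟨l, rfl⟩ := hmem e he
      exact key i j (Finset.mem_range.1 hi) (Finset.mem_range.1 hj) (fun h => hst (by rw [h])) l heq)
    (a := a) (b := b) (hcz haz) (hcz hbz) ha (by rw [hab]; exact Subgroup.mem_zpowers z) (by rw [hab]; exact hz1)
    (by rw [hab]; exact hzr)
  rwa [Finset.card_image_of_injOn hinj, Finset.card_range] at h

end

/-- The checks of `bd_ext` for words. -/
def _root_.Cfsg.Agent.H921.Spor.Wd.chkX {T : Type v} [Group T] (w : Wd T) (r k : ℕ) (a b z y : List ℕ) : Bool :=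
  w.ne z && w.eq (Wd.rep z r) [] && w.eq (y ++ z) (Wd.rep z k ++ y) && w.eq (a ++ z) (z ++ a) &&
    w.eq (b ++ z) (z ++ b) && w.eq (Wd.rep a r) [] && w.eq (a ++ b) (z ++ (b ++ a))

theorem _root_.Cfsg.Agent.H921.Spor.Wd.bd_ext {T : Type v} [Group T] (w : Wd T) {r k : ℕ} {a b z y : List ℕ} (m : ℕ)
    (hr : r.Prime) {F : Type u} [Field F] (hrF : (r : F) ≠ 0) (h : w.chkX r k a b z y = true)
    (hk : ∀ i < m, 0 < i → k ^ i % r ≠ 1 % r) : Bd F r (m * r) T := by
  unfold Wd.chkX at h
  simp only [Bool.and_eq_true] at h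
  obtain ⟨⟨⟨⟨⟨⟨h1, h2⟩, h3⟩, h4⟩, h5⟩, h6⟩, h7⟩ := h
  refine Deg.bd_ext (F := F) (a := w.W a) (b := w.W b) (y := w.W y) (z := w.W z) (k := k) (j := 1) hr hrF
    (w.ne_sound h1) ?_ ?_ ?_ ?_ ?_ ?_ m hk
  · rw [← w.W_rep, w.eq_sound h2, w.nil]
  · rw [mul_inv_eq_iff_eq_mul, ← w.app, w.eq_sound h3, w.app, w.W_rep]
  · rw [← w.app, w.eq_sound h4, w.app]
  · rw [← w.app, w.eq_sound h5, w.app]
  · rw [pow_one, ← w.W_rep, w.eq_sound h6, w.nil]
  · rw [mul_inv_eq_iff_eq_mul, mul_inv_eq_iff_eq_mul, ← w.app, w.eq_sound h7, w.app, w.app, mul_assoc]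

/-- **The bound for `Core P`.** -/
theorem le_of_bd {F : Type u} [Field F] [Finite F] {n : ℕ} {P : Subgroup (GL (Fin n) F)} (hC : Core P) {T : Type v}
    [Group T] (e : Soc P ≃* T) {c : ℕ} (hT : Cfsg.HasCyclicSchurMultiplier T c) {r m : ℕ} (hc : c.Coprime r)
    (h : Bd F r m T) : m ≤ n := by
  refine h n (hC.pr e ?_)
  have h1 := hC.card_scalars_dvd e hT
  rw [Nat.card_congr Multiplicative.toAdd, Nat.card_zmod] at h1
  exact hc.coprime_dvd_left h1

/-- characteristic different from `r` -/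
theorem cast_ne {F : Type u} [Field F] {p : ℕ} [CharP F p] {r : ℕ} (hp : p.Prime) (hr : r.Prime) (h : p ≠ r) :
    (r : F) ≠ 0 := by
  intro h0
  rw [CharP.cast_eq_zero_iff F p] at h0
  exact h ((Nat.prime_dvd_prime_iff_eq hp hr).1 h0)

end Cfsg.Agent.H489.Deg
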