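import Cfsg.Agent.H489.DegBase
import Cfsg.Agent.H921.SporRu
import Cfsg.Agent.H51.RuOdd
import Cfsg.Agent.S2051
import Cfsg.Agent.H58.HeOdd
import Cfsg.Agent.KFacts.He.TwoA_m3
import Cfsg.Agent.S2049
import Cfsg.Agent.Prune
set_option linter.all false

-- part: H489/DegRu
section
set_option linter.all false
open scoped Cfsg.Agent.FastGrp

/-!
# The Rudvalis group has no projective representations of degree at most 12 (helper489)

Characteristic not 29: an element of order 29 with 14 different powers in its class (helper921). Characteristic 29: an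
extraspecial group of order 125 whose centre is inverted to the power 4: degree at least 20.
-/

section
set_option autoImplicit false
set_option maxRecDepth 100000
set_option exponentiation.threshold 5000

namespace Cfsg.Agent.H489.Deg.RuF

section fast
open Cfsg.Agent.Lib.BitNet

private def trs (x : ℕ) (l : List (ℕ × ℕ)) : ℕ :=
  l.foldr (fun p y => dsw (Nat.pow 2 p.2 - Nat.pow 2 p.1) (trMask 16 p.1 p.2) y) x

private theorem testBit_trs (x : ℕ) : ∀ l : List (ℕ × ℕ), (∀ p ∈ l, p.1 < p.2 ∧ p.2 < 16) → ∀ I < 2 ^ 16, ∃ J < 2 ^ 16,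
    (trs x l).testBit I = x.testBit J ∧ ∀ j, J.testBit j = I.testBit (l.foldr (fun p i => swapIdx p.1 p.2 i) j)
  | [], _, I, hI => ⟨I, hI, rfl, fun _ => rfl⟩
  | p :: l, h, I, hI => by
    obtain ⟨h1, h2⟩ := h p List.mem_cons_self
    obtain ⟨h3, h4⟩ := sw_trMask h1 h2 hI
    obtain ⟨J, h5, h6, h7⟩ := testBit_trs x l (fun q hq => h q (List.mem_cons_of_mem _ hq)) _ h4
    exact ⟨J, h5, (testBit_dsw (trMask_valid h1 h2) _ I).trans h6, fun j => (h7 j).trans (h3 _)⟩

private def swL : List (ℕ × ℕ) :=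
  [(0, 12), (1, 13), (2, 14), (3, 15), (0, 8), (1, 9), (2, 10), (3, 11), (0, 4), (1, 5), (2, 6), (3, 7)]

/-- the table of a network -/
private def tabN (l : List (ℕ × ℕ)) : ℕ := trs (appMr 4096 4 l.reverse (pack (fun r => idxMask 16 r) 4096 4 0)) swL

private theorem tabN_eq {l : List (ℕ × ℕ)} (h : In 4096 l) {c : ℕ} (hc : c < 4096) :
    Nat.mod (Nat.shiftRight (tabN l) (Nat.mul 16 c)) 4096 = app l c := by
  have h0 := h.app_lt hc
  refine Nat.eq_of_testBit_eq fun r => ?_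
  show (tabN l >>> (16 * c) % 2 ^ 12).testBit r = _
  rw [Nat.testBit_mod_two_pow, Nat.testBit_shiftRight]
  rcases Nat.lt_or_ge r 12 with hr | hr
  · obtain ⟨J, h1, h2, h3⟩ := testBit_trs (appMr 4096 4 l.reverse (pack (fun r => idxMask 16 r) 4096 4 0)) swL
      (by decide) (16 * c + r) (by omega)
    have h4 : J = 2 ^ 12 * r + c := Nat.eq_of_testBit_eq fun j => by
      rcases Nat.lt_or_ge j 16 with hj | hj
      · have h5 : ∀ j < 16, swL.foldr (fun p i => swapIdx p.1 p.2 i) j = if j < 12 then j + 4 else j - 12 := by decide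
        rw [h3, h5 j hj, Nat.testBit_two_pow_mul_add r (show c < 2 ^ 12 from hc),
          show 16 * c + r = 2 ^ 4 * c + r from rfl, Nat.testBit_two_pow_mul_add c (show r < 2 ^ 4 by omega)]
        by_cases h6 : j < 12
        · rw [if_pos h6, if_pos h6, if_neg (by omega), Nat.add_sub_cancel]
        · rw [if_neg h6, if_neg h6, if_pos (by omega)]
      · have h6 : 2 ^ 16 ≤ 2 ^ j := Nat.pow_le_pow_right (by decide) hj
        rw [Nat.testBit_lt_two_pow (h1.trans_le h6), Nat.testBit_lt_two_pow (lt_of_lt_of_le (by omega) h6)]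
    have h7 := testBit_appMr (k := 4) (l := l.reverse) (fun p hp => h p (List.mem_reverse.1 hp))
      (pack (fun r => idxMask 16 r) 4096 4 0) (r := r) (by omega) h0
    rw [Cfsg.Agent.Lib.BitNetSimple.app_reverse, appInv_app h.valid, testBit_pack _ 4 0 (by omega) h0, Nat.zero_add,
      testBit_idxMask (by omega), decide_eq_true (show app l c < 2 ^ 16 by omega), Bool.true_and] at h7
    rw [decide_eq_true hr, Bool.true_and, ← h7]
    exact h2.trans (congrArg _ h4)
  · rw [decide_eq_false (by omega), Bool.false_and,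
      Nat.testBit_lt_two_pow (h0.trans_le (Nat.pow_le_pow_right (by decide) hr : 2 ^ 12 ≤ 2 ^ r))]

private noncomputable def frc (x : ℕ) (k : ℕ → ℕ) : ℕ :=
  Nat.rec (motive := fun _ => ℕ) (k 0) (fun n _ => k (Nat.succ n)) x

private theorem frc_eq (x : ℕ) (k : ℕ → ℕ) : frc x k = k x := by cases x <;> rfl

/-- a word by table look-up; `tab l` is the table of the letter `l` -/
private noncomputable def gT (tab : ℕ → ℕ) (w : List ℕ) (i : ℕ) : ℕ :=
  List.rec (motive := fun _ => ℕ) i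
    (fun a _ ih => frc ih fun c => frc a fun b => Nat.mod (Nat.shiftRight (tab b) (Nat.mul 16 c)) 4096) w

private noncomputable def gX (tab : ℕ → ℕ) (ev : List ℕ → ℕ → ℕ) (w : List ℕ) (i : ℕ) : ℕ :=
  Bool.rec (motive := fun _ => ℕ) (gT tab w i) (ev w i) (Nat.ble 4096 i)

private theorem gX_eq {net : ℕ → List (ℕ × ℕ)} {tab : ℕ → ℕ} {ev : List ℕ → ℕ → ℕ} (hn : ∀ l, In 4096 (net l))
    (ht : ∀ l, tab l = tabN (net l)) (h0 : ∀ p, ev [] p = p) (h1 : ∀ l w p, ev (l :: w) p = app (net l) (ev w p)) :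
    ev = gX tab ev := funext fun w => funext fun i => by
  have key : i < 4096 → ∀ w, gT tab w i = ev w i ∧ ev w i < 4096 := by
    intro hi w
    induction w with
    | nil => exact ⟨(h0 i).symm, (h0 i).symm ▸ hi⟩
    | cons a w ih =>
      have h4 : gT tab (a :: w) i = Nat.mod (Nat.shiftRight (tab a) (Nat.mul 16 (gT tab w i))) 4096 :=
        (frc_eq (gT tab w i) fun c => frc a fun b => Nat.mod (Nat.shiftRight (tab b) (Nat.mul 16 c)) 4096).trans
          (frc_eq a fun b => Nat.mod (Nat.shiftRight (tab b) (Nat.mul 16 (gT tab w i))) 4096)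
      rw [h4, h1, ih.1, ht, tabN_eq (hn a) ih.2]
      exact ⟨rfl, (hn a).app_lt ih.2⟩
  show _ = Bool.rec (motive := fun _ => ℕ) (gT tab w i) (ev w i) (Nat.ble 4096 i)
  cases h : Nat.ble 4096 i
  · exact (key (Nat.lt_of_not_le fun e => Bool.false_ne_true (h.symm.trans (Nat.ble_eq_true_of_le e))) w).1.symm
  · rfl

end fast

section
open Cfsg.Agent.Lib.BitNet Cfsg.Agent.KFacts.RuDbl.Four

private theorem in4 : ∀ l, In 4096 (net4 l)
  | 0 => inn_sound (by decide +kernel)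
  | 1 => inn_sound (by decide +kernel)
  | 2 => inn_sound (by decide +kernel)
  | _ + 3 => inn_sound (l := Cfsg.Agent.SporadicB.RuData.net2) (by decide +kernel)

private noncomputable def ev4F : List ℕ → ℕ → ℕ := gX (fun l => tabN (net4 l)) ev4

private theorem ev4_eq : ev4 = ev4F :=
  gX_eq in4 (fun _ => rfl) (fun _ => rfl) fun l w p => Cfsg.Agent.Schreier.RuSyl.fr_eq (ev4 w p) (app (net4 l))

private noncomputable def eqw4F (u v : List ℕ) : Bool :=
  cond (Nat.beq (ev4F u 0) (ev4F v 0)) (cond (Nat.beq (ev4F u 29) (ev4F v 29))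
    (cond (Nat.beq (ev4F u 580) (ev4F v 580)) (Nat.beq (ev4F u 577) (ev4F v 577)) false) false) false

private theorem eqw4_eq : eqw4 = eqw4F :=
  congrArg (fun (e : List ℕ → ℕ → ℕ) (u v : List ℕ) => cond (Nat.beq (e u 0) (e v 0)) (cond (Nat.beq (e u 29) (e v 29))
    (cond (Nat.beq (e u 580) (e v 580)) (Nat.beq (e u 577) (e v 577)) false) false) false) ev4_eq

end

end Cfsg.Agent.H489.Deg.RuF
end

set_option autoImplicit false
set_option maxRecDepth 100000

universe u v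

namespace Cfsg.Agent.H489.Deg.Ru

open Cfsg Cfsg.Agent.SporadicB Cfsg.Agent.KFacts.RuDbl.Four
open Cfsg.Agent.H912.Bd Cfsg.Agent.H921.Spor Cfsg.Agent.H915.LD
open Matrix (GeneralLinearGroup)

/-- the words in the four involutions -/
noncomputable def wd4 : Wd RuOrder.H where
  W := W4
  nil := W4_nil
  app := W4_append
  eq := eqw4
  eq_sound := eqw4_sound
  ne := fun u => !(Nat.beq (ev4 u 0) 0)
  ne_sound := by
    intro u h h1
    have h2 := W4_apply (0 : Fin 4060) u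
    rw [h1] at h2
    have h3 : ((((1 : RuOrder.H) : Equiv.Perm (Fin 4060)) (0 : Fin 4060) : Fin 4060) : ℕ) = 0 := rfl
    rw [h3] at h2
    have h4 : ((0 : Fin 4060) : ℕ) = 0 := rfl
    rw [h4] at h2
    rw [← h2] at h
    simp at h

/-- the two elements of order 5 -/
def wa : List ℕ := [1, 3, 1, 3, 1] ++ [0, 3, 0, 1, 3, 1, 0, 1, 0, 1, 3, 1, 0, 3, 0]
def wb : List ℕ := [1, 3, 1, 3, 1] ++ [3, 0, 1, 0, 2, 1, 3, 1, 3, 1, 2, 0, 1, 0, 3]
def wz : List ℕ := wa ++ wb ++ wa.reverse ++ wb.reverse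
def wy : List ℕ := [1, 2, 3, 1, 2, 3, 1, 2, 3, 1, 0, 3, 1, 3, 2, 3, 1]

private noncomputable def wd4F : Wd RuOrder.H where
  W := W4
  nil := W4_nil
  app := W4_append
  eq := RuF.eqw4F
  eq_sound := fun {u v} h => eqw4_sound ((congrFun (congrFun RuF.eqw4_eq u) v).trans h)
  ne := fun u => !(Nat.beq (RuF.ev4F u 0) 0)
  ne_sound := fun {u} h => wd4.ne_sound
    ((congrArg (fun (e : List ℕ → ℕ → ℕ) => !(Nat.beq (e u 0) 0)) RuF.ev4_eq).trans h)

theorem ru_five {F : Type u} [Field F] (h5 : (5 : F) ≠ 0) : Bd F 5 20 Cfsg.Spor.Ru :=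
  (wd4F.bd_ext (r := 5) (a := wa) (b := wb) (z := wz) (y := wy) (k := 2) 4 (by norm_num) (by exact_mod_cast h5)
    (by decide +kernel) (by decide)).of_sub RuLat.Main.equiv.symm.toMonoidHom RuLat.Main.equiv.symm.injective

/-- **The Rudvalis group: degree at least 14.** -/
theorem ru_le {p : ℕ} (hp : p.Prime) {F : Type u} [Field F] [Finite F] [CharP F p] {n : ℕ}
    {P : Subgroup (GL (Fin n) F)} (hC : Core P) (e : Soc P ≃* Cfsg.Spor.Ru) : 14 ≤ n := by
  by_cases h29 : p = 29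
  · have h := le_of_bd hC e Cfsg.Agent.S2051.result (r := 5) (by norm_num)
      (ru_five (F := F) (by exact_mod_cast cast_ne (F := F) hp (by norm_num : (5 : ℕ).Prime) (by omega)))
    omega
  · exact le_of_bd hC e Cfsg.Agent.S2051.result (r := 29) (by norm_num)
      (Ru.Ru_twentynine.bd (F := F) (by norm_num) (cast_ne (F := F) hp (by norm_num : (29 : ℕ).Prime) h29))

end Cfsg.Agent.H489.Deg.Ru
end

-- part: H489/DegHe
section
set_option linter.all false
open scoped Cfsg.Agent.FastGrp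

/-!
# The Held group has no projective representations of degree at most 12 (helper489)

Characteristic not 7: a group `7^(1+2)` with six conjugates of a generator of its centre in it. Characteristic 7: the
24 characters of `5²` are conjugate.
-/

set_option autoImplicit false
set_option maxRecDepth 100000

universe u v

namespace Cfsg.Agent.H489.Deg.He

open Cfsg
open Cfsg.Spor.He (Gen)
open Cfsg.Agent.SporadicB.HePerm (wd)
open Cfsg.Agent.FixBN.HeStab (chkB eq_of_chkB)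
open Cfsg.Agent.H58.HeOdd (wd_app ne_of_chkB)
open Cfsg.Agent.H912.Bd Cfsg.Agent.H921.Spor Cfsg.Agent.H915.LD
open Matrix (GeneralLinearGroup)

/-- letters -/
def gn : ℕ → Gen
  | 0 => .a
  | 1 => .b
  | 2 => .c
  | 3 => .d
  | 4 => .e
  | 5 => .f
  | _ => .g

/-- the words -/
noncomputable def w : Wd Cfsg.Spor.He where
  W := fun u => wd (u.map gn)
  nil := rfl
  app := fun u v => by rw [List.map_append, wd_app]
  eq := fun u v => chkB (u.map gn) (v.map gn)
  eq_sound := fun h => eq_of_chkB h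
  ne := fun u => !(chkB (u.map gn) [])
  ne_sound := by
    intro u h
    have h1 : chkB (u.map gn) [] = false := by simpa using h
    exact ne_of_chkB h1

theorem he_seven {F : Type u} [Field F] (h7 : ((7 : ℕ) : F) ≠ 0) : Bd F 7 (6 * 7) Cfsg.Spor.He :=
  w.bd_ext (r := 7) (k := 3)
    (a := [3, 5, 1, 2, 3, 4, 2, 3, 6, 4, 3, 2, 3, 0, 1])
    (b := [5, 6, 3, 2, 1, 3, 5, 6, 3, 2, 3, 1, 2, 3, 6, 3, 5, 2, 3, 4, 2])
    (z := [3, 5, 1, 2, 3, 4, 2, 3, 6, 4, 3, 2, 3, 0, 1, 5, 6, 3, 2, 1, 3, 5, 6, 3, 2, 3, 1, 2, 3, 6, 3, 5, 2, 3, 4, 2, 1, 0, 3, 2, 3, 4, 6, 3, 2, 4, 3, 2, 1, 5, 3, 2, 4, 3, 2, 5, 3, 6, 3, 2, 1, 3, 2, 3, 6, 5, 3, 1, 2, 3, 6, 5])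
    (y := [5, 3, 2, 3, 1, 2, 3, 6, 3, 1, 2, 3, 2, 0, 1])
    6 (by norm_num) h7 (by decide +kernel) (by decide)

theorem he_five : Orb 5 13 Cfsg.Spor.He :=
  w.orb_gen (r := 5) (d := 2) (m := 13)
    (X := [[1, 3, 5, 6, 2, 3, 5, 0, 1, 2, 3, 1, 2, 3, 5, 2],
      [2, 1, 6, 3, 2, 3, 4, 2, 3, 1, 2, 3, 5, 4, 2, 3, 2, 3, 1, 2, 0]])
    (G := [[2, 1, 0, 6, 5, 3, 2, 3, 1, 2, 3, 5, 1, 2, 3, 6, 0, 1, 2, 3, 5, 4],
      [6, 3, 5, 3, 4, 1, 2, 3, 1, 2, 3, 6, 3, 1, 2, 3, 2, 3, 1],
      [6, 5, 2, 3, 4, 2, 3, 5, 1, 2, 3, 1, 2, 3, 5, 6, 3, 0, 1],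
      [5, 1, 2, 3, 6, 1, 2, 3, 2, 3, 6, 2, 3, 5, 1, 2, 1]])
    (B := [[[2, 0], [0, 2]], [[0, 1], [1, 2]], [[2, 2], [1, 3]], [[3, 3], [4, 2]]])
    (S := [[], [0], [1], [0, 0], [1, 0], [1, 2], [3, 1, 1], [0, 0, 0], [2, 1, 1], [1, 2, 0], [1, 1, 0], [1, 1, 3], [1, 2, 1]]) (c₀ := [1, 0])
    (by norm_num) (by decide +kernel)

/-- **The Held group: degree at least 13.** -/
theorem he_le {p : ℕ} (hp : p.Prime) {F : Type u} [Field F] [Finite F] [CharP F p] {n : ℕ}
    {P : Subgroup (GL (Fin n) F)} (hC : Core P) (e : Soc P ≃* Cfsg.Spor.He) : 13 ≤ n := by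
  by_cases h7 : p = 7
  · exact le_of_bd hC e Cfsg.Agent.S2049.result (r := 5) (by norm_num)
      (he_five.bd (F := F) (by norm_num) (cast_ne (F := F) hp (by norm_num : (5 : ℕ).Prime) (by omega)))
  · have h := le_of_bd hC e Cfsg.Agent.S2049.result (r := 7) (by norm_num)
      (he_seven (F := F) (cast_ne (F := F) hp (by norm_num : (7 : ℕ).Prime) h7))
    omega

end Cfsg.Agent.H489.Deg.He
end
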