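import Mathlib
import Cfsg.Agent.Transfer.ElemAbAut
import Cfsg.Agent.Solvable.HallAux
set_option linter.all false

/-!
# Dixon's bound for solvable permutation groups

A solvable permutation group of degree `n ≥ 1` has order at most `24 ^ ((n - 1) / 3)`.
`card_pow_three_le`: `|G| ^ 3 ≤ 24 ^ (n - 1)`.
-/

set_option autoImplicit false

namespace Cfsg.Agent.H489

open Subgroup

universe u

/-- A group with a jointly injective family of homomorphisms has at most as many elements as the product of the
images. -/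
theorem card_le_prod_range {K : Type*} [Group K] {ι : Type*} [Fintype ι] {H : ι → Type*}
    [∀ i, Group (H i)] (φ : ∀ i, K →* H i) [∀ i, Finite (φ i).range] (h : ∀ k, (∀ i, φ i k = 1) → k = 1) :
    Nat.card K ≤ ∏ i, Nat.card (φ i).range := by
  rw [← Nat.card_pi]
  refine Nat.card_le_card_of_injective (fun k i => (⟨φ i k, k, rfl⟩ : (φ i).range)) ?_
  intro a b hab
  have h1 : a * b⁻¹ = 1 := by
    apply h
    intro i
    have h2 := congrArg Subtype.val (congrFun hab i)
    have h3 : φ i a = φ i b := h2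
    rw [map_mul, map_inv, h3, mul_inv_cancel]
  exact mul_inv_eq_one.mp h1

/-- Numerical bound, `p ≥ 5`. -/
theorem num_five (p : ℕ) (hp : 5 ≤ p) : p ^ 6 ≤ 24 ^ (p - 1) := by
  induction p, hp using Nat.le_induction with
  | base => norm_num
  | succ k hk ih =>
    have h1 : (k + 1) ^ 6 ≤ 24 * k ^ 6 := by
      have h2 : 5 * (k + 1) ≤ 6 * k := by omega
      have h3 : (5 * (k + 1)) ^ 6 ≤ (6 * k) ^ 6 := Nat.pow_le_pow_left h2 6
      rw [mul_pow, mul_pow] at h3
      norm_num at h3
      nlinarith [Nat.zero_le (k ^ 6)]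
    have h4 : k + 1 - 1 = (k - 1) + 1 := by omega
    rw [h4, pow_succ]
    calc (k + 1) ^ 6 ≤ 24 * k ^ 6 := h1
      _ ≤ 24 * 24 ^ (k - 1) := Nat.mul_le_mul_left _ ih
      _ = 24 ^ (k - 1) * 24 := mul_comm _ _

/-- Numerical bound: induction on the dimension. -/
theorem num_step (p d₀ : ℕ) (hp : 2 ≤ p) (h0 : p ^ (3 * (d₀ * (d₀ + 1))) ≤ 24 ^ (p ^ d₀ - 1))
    (h1 : ∀ d, d₀ ≤ d → p ^ (6 * (d + 1)) ≤ 24 ^ (p ^ (d + 1) - p ^ d)) (d : ℕ) (hd : d₀ ≤ d) :
    p ^ (3 * (d * (d + 1))) ≤ 24 ^ (p ^ d - 1) := by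
  induction d, hd using Nat.le_induction with
  | base => exact h0
  | succ d hd ih =>
    have h2 : 3 * ((d + 1) * (d + 1 + 1)) = 3 * (d * (d + 1)) + 6 * (d + 1) := by ring
    have h3 : p ^ d ≤ p ^ (d + 1) := Nat.pow_le_pow_right (by omega) (by omega)
    have h4 : 1 ≤ p ^ d := Nat.one_le_pow _ _ (by omega)
    have h5 : p ^ (d + 1) - 1 = (p ^ d - 1) + (p ^ (d + 1) - p ^ d) := by omega
    rw [h2, pow_add, h5, pow_add]
    exact Nat.mul_le_mul ih (h1 d hd)

theorem num_bound (p d : ℕ) (hp : p.Prime) (hd : 0 < d) :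
    (p ^ d * ∏ i : Fin d, (p ^ d - p ^ (i : ℕ))) ^ 3 ≤ 24 ^ (p ^ d - 1) := by
  have hcrude : (p ^ d * ∏ i : Fin d, (p ^ d - p ^ (i : ℕ))) ^ 3 ≤ p ^ (3 * (d * (d + 1))) := by
    have h1 : ∏ i : Fin d, (p ^ d - p ^ (i : ℕ)) ≤ (p ^ d) ^ d := by
      calc ∏ i : Fin d, (p ^ d - p ^ (i : ℕ)) ≤ ∏ _i : Fin d, p ^ d :=
            Finset.prod_le_prod' (fun i _ => Nat.sub_le _ _)
        _ = (p ^ d) ^ d := by rw [Finset.prod_const, Finset.card_univ, Fintype.card_fin]
    calc (p ^ d * ∏ i : Fin d, (p ^ d - p ^ (i : ℕ))) ^ 3 ≤ (p ^ d * (p ^ d) ^ d) ^ 3 :=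
          Nat.pow_le_pow_left (Nat.mul_le_mul_left _ h1) 3
      _ = p ^ (3 * (d * (d + 1))) := by ring
  rcases Nat.lt_or_ge p 5 with hp5 | hp5
  · have hp2 := hp.two_le
    interval_cases p
    · -- p = 2
      rcases Nat.lt_or_ge d 4 with hd4 | hd4
      · interval_cases d
        · norm_num
        · norm_num [Fin.prod_univ_succ]
        · norm_num [Fin.prod_univ_succ]
      · refine hcrude.trans (num_step 2 4 (le_refl 2) (by norm_num) ?_ d hd4)
        intro e he
        have h1 : 2 ^ (e + 1) - 2 ^ e = 2 ^ e := by rw [pow_succ]; omega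
        have h2 : 2 * (e + 1) ≤ 2 ^ e := by
          induction e, he using Nat.le_induction with
          | base => norm_num
          | succ k hk ih =>
            have := ih (by rw [pow_succ]; omega)
            rw [pow_succ]; omega
        rw [h1]
        calc 2 ^ (6 * (e + 1)) = 64 ^ (e + 1) := by rw [pow_mul]; norm_num
          _ ≤ (24 ^ 2) ^ (e + 1) := Nat.pow_le_pow_left (by norm_num) _
          _ = 24 ^ (2 * (e + 1)) := by rw [← pow_mul]
          _ ≤ 24 ^ (2 ^ e) := Nat.pow_le_pow_right (by norm_num) h2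
    · -- p = 3
      rcases Nat.lt_or_ge d 2 with hd2 | hd2
      · interval_cases d
        norm_num
      · refine hcrude.trans (num_step 3 2 (by norm_num) (by norm_num) ?_ d hd2)
        intro e he
        have h1 : 3 ^ (e + 1) - 3 ^ e = 2 * 3 ^ e := by rw [pow_succ]; omega
        have h2 : 2 * (e + 1) ≤ 3 ^ e := by
          clear h1
          induction e, he using Nat.le_induction with
          | base => norm_num
          | succ k hk ih =>
            rw [pow_succ]; omega
        rw [h1]
        calc 3 ^ (6 * (e + 1)) = 729 ^ (e + 1) := by rw [pow_mul]; norm_num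
          _ ≤ (24 ^ 4) ^ (e + 1) := Nat.pow_le_pow_left (by norm_num) _
          _ = 24 ^ (4 * (e + 1)) := by rw [← pow_mul]
          _ ≤ 24 ^ (2 * 3 ^ e) := Nat.pow_le_pow_right (by norm_num) (by omega)
    · exact absurd hp (by norm_num)
  · refine hcrude.trans (num_step p 1 (by omega) ?_ ?_ d hd)
    · have := num_five p hp5
      simpa using this
    · intro e he
      have h1 : p ^ (e + 1) - p ^ e = (p - 1) * p ^ e := by
        rw [pow_succ', Nat.sub_mul, one_mul]
      have h2 : e + 1 ≤ p ^ e := by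
        have := Nat.lt_pow_self (n := e) (show 1 < p by omega)
        omega
      rw [h1, pow_mul]
      calc (p ^ 6) ^ (e + 1) ≤ (24 ^ (p - 1)) ^ (e + 1) := Nat.pow_le_pow_left (num_five p hp5) _
        _ = 24 ^ ((p - 1) * (e + 1)) := by rw [← pow_mul]
        _ ≤ 24 ^ ((p - 1) * p ^ e) := Nat.pow_le_pow_right (by norm_num) (Nat.mul_le_mul_left _ h2)

/-- A normal subgroup `N` of `G` which is transitive on `Ω`, elementary abelian: bound for the order of `G`. -/
theorem card_le_of_transitive {Ω : Type u} [Finite Ω] (G : Subgroup (Equiv.Perm Ω)) (N : Subgroup G)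
    (hN : N.Normal) (α : Ω) (htrans : ∀ β : Ω, ∃ n ∈ N, (n : Equiv.Perm Ω) α = β) :
    Nat.card G ≤ Nat.card Ω * Nat.card (MulAut N) := by
  rw [← Nat.card_prod]
  refine Nat.card_le_card_of_injective
    (fun g => ((g : Equiv.Perm Ω) α, (MulAut.conjNormal g : MulAut N))) ?_
  intro g h hgh
  have h1 : (g : Equiv.Perm Ω) α = (h : Equiv.Perm Ω) α := congrArg Prod.fst hgh
  have h2 : (MulAut.conjNormal g : MulAut N) = MulAut.conjNormal h := congrArg Prod.snd hgh
  have h3 : ∀ n ∈ N, g * n * g⁻¹ = h * n * h⁻¹ := by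
    intro n hn
    have h4 := congrArg (fun f : MulAut N => ((f ⟨n, hn⟩ : N) : G)) h2
    exact h4
  apply Subtype.ext
  apply Equiv.ext
  intro β
  obtain ⟨n, hn, rfl⟩ := htrans β
  have h5 : g * n = (h * n * h⁻¹) * g := by
    rw [← h3 n hn, inv_mul_cancel_right]
  have h6 : (g : Equiv.Perm Ω) ((n : Equiv.Perm Ω) α) = ((g * n : G) : Equiv.Perm Ω) α := rfl
  have h7 : (h : Equiv.Perm Ω) ((n : Equiv.Perm Ω) α) = ((h * n * h⁻¹ * h : G) : Equiv.Perm Ω) α := by
    rw [inv_mul_cancel_right]; rfl
  rw [h6, h5, h7]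
  show ((h * n * h⁻¹ : G) : Equiv.Perm Ω) ((g : Equiv.Perm Ω) α)
    = ((h * n * h⁻¹ : G) : Equiv.Perm Ω) ((h : Equiv.Perm Ω) α)
  rw [h1]

/-- **The order of a group respecting a partition.** -/
theorem card_le_of_partition {Ω Q : Type u} [Finite Ω] [Fintype Q] (G : Subgroup (Equiv.Perm Ω)) (c : Ω → Q)
    (hc : Function.Surjective c) (hG : ∀ g ∈ G, ∀ x y, c x = c y → c (g x) = c (g y)) :
    ∃ (ψ : G →* Equiv.Perm Q) (φ : ∀ q : Q, ψ.ker →* Equiv.Perm {x // c x = q}),
      Nat.card G ≤ Nat.card ψ.range * ∏ q, Nat.card (φ q).range := by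
  classical
  choose s hs using hc
  have hwd : ∀ g ∈ G, ∀ x, c (g (s (c x))) = c (g x) := fun g hg x => hG g hg _ _ (hs _)
  let ψ : G →* Equiv.Perm Q :=
    { toFun := fun g =>
        { toFun := fun q => c ((g : Equiv.Perm Ω) (s q))
          invFun := fun q => c ((g⁻¹ : Equiv.Perm Ω) (s q))
          left_inv := fun q => by
            show c ((g⁻¹ : Equiv.Perm Ω) (s (c ((g : Equiv.Perm Ω) (s q))))) = q
            rw [hwd _ (G.inv_mem g.2)]
            simp [hs]
          right_inv := fun q => by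
            show c ((g : Equiv.Perm Ω) (s (c ((g⁻¹ : Equiv.Perm Ω) (s q))))) = q
            rw [hwd _ g.2]
            simp [hs] }
      map_one' := by
        ext q
        exact hs q
      map_mul' := fun g h => by
        ext q
        show c ((g : Equiv.Perm Ω) ((h : Equiv.Perm Ω) (s q)))
          = c ((g : Equiv.Perm Ω) (s (c ((h : Equiv.Perm Ω) (s q)))))
        rw [hwd _ g.2] }
  have hψ : ∀ (g : G) (x : Ω), ψ g (c x) = c ((g : Equiv.Perm Ω) x) := fun g x => hwd _ g.2 x
  have hker : ∀ (k : ψ.ker) (x : Ω), c (((k : G) : Equiv.Perm Ω) x) = c x := by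
    intro k x
    rw [← hψ, MonoidHom.mem_ker.mp k.2]
    rfl
  let φ : ∀ q : Q, ψ.ker →* Equiv.Perm {x // c x = q} := fun q =>
    { toFun := fun k =>
        { toFun := fun x => ⟨((k : G) : Equiv.Perm Ω) x, by rw [hker]; exact x.2⟩
          invFun := fun x => ⟨((k⁻¹ : ψ.ker) : G) |>.1 x, by
            have := hker k⁻¹ x
            rw [this]; exact x.2⟩
          left_inv := fun x => by
            apply Subtype.ext
            simp
          right_inv := fun x => by
            apply Subtype.ext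
            simp }
      map_one' := by
        ext x
        rfl
      map_mul' := fun k l => by
        ext x
        rfl }
  refine ⟨ψ, φ, ?_⟩
  have h1 : Nat.card G = Nat.card ψ.range * Nat.card ψ.ker := by
    rw [← Subgroup.card_mul_index ψ.ker, Subgroup.index_ker, mul_comm]
  rw [h1]
  refine Nat.mul_le_mul_left _ (card_le_prod_range φ ?_)
  intro k hk
  apply Subtype.ext
  apply Subtype.ext
  apply Equiv.ext
  intro x
  have h2 := hk (c x)
  have h3 := congrArg (fun f : Equiv.Perm {y // c y = c x} => ((f ⟨x, rfl⟩ : {y // c y = c x}) : Ω)) h2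
  exact h3

/-- **Dixon's bound.** -/
theorem card_pow_three_le (n : ℕ) : ∀ (Ω : Type u) [Finite Ω] (G : Subgroup (Equiv.Perm Ω)),
    Group.IsSolvable G → Nat.card Ω = n → 0 < n → Nat.card G ^ 3 ≤ 24 ^ (n - 1) := by
  classical
  induction n using Nat.strong_induction_on with
  | _ n ih =>
  intro Ω _ G hG hΩ hn
  rcases subsingleton_or_nontrivial G with hsub | hnt
  · have h1 : Nat.card G = 1 := Nat.card_unique
    rw [h1, one_pow]
    exact Nat.one_le_pow _ _ (by norm_num)
  have := hG
  obtain ⟨p, N, hp, hNn, hN0, hNc, hNp⟩ := Cfsg.Agent.Solvable.HallAux.exists_normal_elementary (G := G)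
  have hcomm : ∀ a ∈ N, ∀ b ∈ N, a * b = b * a := by
    intro a ha b hb
    have := hNc.1.1 ⟨a, ha⟩ ⟨b, hb⟩
    exact congrArg Subtype.val this
  -- the orbit relation of `N`
  let r : Setoid Ω :=
    { r := fun x y => ∃ k ∈ N, (k : Equiv.Perm Ω) x = y
      iseqv :=
        { refl := fun x => ⟨1, N.one_mem, rfl⟩
          symm := by
            rintro x y ⟨k, hk, rfl⟩
            exact ⟨k⁻¹, N.inv_mem hk, by simp⟩
          trans := by
            rintro x y z ⟨k, hk, rfl⟩ ⟨l, hl, rfl⟩
            exact ⟨l * k, N.mul_mem hl hk, rfl⟩ } }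
  have hr : ∀ x y, (Quotient.mk r x = Quotient.mk r y) ↔ ∃ k ∈ N, (k : Equiv.Perm Ω) x = y := by
    intro x y
    rw [Quotient.eq]
    rfl
  have hfinQ : Finite (Quotient r) := inferInstance
  have : Fintype (Quotient r) := Fintype.ofFinite _
  have hsurj : Function.Surjective (Quotient.mk r) := Quotient.mk_surjective
  have hne : Nonempty Ω := by
    rw [← Finite.card_pos_iff, hΩ]; exact hn
  rcases subsingleton_or_nontrivial (Quotient r) with hQ | hQ
  · -- `N` is transitive
    obtain ⟨α⟩ := hne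
    have htrans : ∀ β : Ω, ∃ k ∈ N, (k : Equiv.Perm Ω) α = β := fun β =>
      (hr α β).mp (Subsingleton.elim _ _)
    have hbij : Function.Bijective (fun k : N => ((k : G) : Equiv.Perm Ω) α) := by
      constructor
      · intro k l hkl
        have hkl' : ((k : G) : Equiv.Perm Ω) α = ((l : G) : Equiv.Perm Ω) α := hkl
        apply Subtype.ext
        apply Subtype.ext
        apply Equiv.ext
        intro β
        obtain ⟨m, hm, rfl⟩ := htrans β
        have h1 : ∀ j : N, ((j : G) : Equiv.Perm Ω) ((m : Equiv.Perm Ω) α)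
            = (m : Equiv.Perm Ω) (((j : G) : Equiv.Perm Ω) α) := by
          intro j
          have h2 := congrArg (fun f : G => (f : Equiv.Perm Ω) α) (hcomm j j.2 m hm)
          exact h2
        rw [h1, h1, hkl']
      · intro β
        obtain ⟨k, hk, hkβ⟩ := htrans β
        exact ⟨⟨k, hk⟩, hkβ⟩
    have hcardN : Nat.card N = n := by rw [← hΩ]; exact Nat.card_congr (Equiv.ofBijective _ hbij)
    have : Fact p.Prime := ⟨hp⟩
    obtain ⟨d, hd⟩ : ∃ d, Nat.card N = p ^ d := by
      have hpg : IsPGroup p N := fun x => ⟨1, by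
        rw [pow_one]
        apply Subtype.ext
        exact hNp x x.2⟩
      exact hpg.exists_card_eq
    have hd0 : 0 < d := by
      rcases Nat.eq_zero_or_pos d with rfl | h
      · rw [pow_zero] at hd
        exact absurd (Subgroup.card_eq_one.mp hd) hN0
      · exact h
    have h1 := card_le_of_transitive G N hNn α htrans
    rw [Cfsg.Agent.Transfer.ElemAbAut.card_mulAut p d
      (fun x y => hNc.1.1 x y) (fun x => Subtype.ext (hNp x x.2)) hd, hΩ, ← hcardN, hd] at h1
    have h2 : n = p ^ d := by rw [← hcardN, hd]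
    rw [h2]
    exact (Nat.pow_le_pow_left h1 3).trans (num_bound p d hp hd0)
  · -- `N` is intransitive
    obtain ⟨ψ, φ, hle⟩ := card_le_of_partition G (Quotient.mk r) hsurj (by
      intro g hg x y hxy
      rw [hr] at hxy ⊢
      obtain ⟨k, hk, rfl⟩ := hxy
      refine ⟨⟨g, hg⟩ * k * ⟨g, hg⟩⁻¹, hNn.conj_mem k hk _, ?_⟩
      show g (((k : G) : Equiv.Perm Ω) (g⁻¹ (g x))) = _
      simp)
    have hQcard : 1 < Nat.card (Quotient r) := Finite.one_lt_card
    -- sizes
    have hsum : n = ∑ q : Quotient r, Nat.card {x // Quotient.mk r x = q} := by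
      rw [← hΩ, ← Nat.card_sigma]
      exact Nat.card_congr (Equiv.sigmaFiberEquiv _).symm
    have hpos : ∀ q : Quotient r, 0 < Nat.card {x // Quotient.mk r x = q} := by
      intro q
      obtain ⟨x, hx⟩ := hsurj q
      have : Nonempty {x // Quotient.mk r x = q} := ⟨⟨x, hx⟩⟩
      exact Nat.card_pos
    have hfib : ∀ q : Quotient r, Nat.card {x // Quotient.mk r x = q} < n := by
      intro q
      obtain ⟨q', hq'⟩ := exists_ne q
      rw [hsum, ← Finset.add_sum_erase _ _ (Finset.mem_univ q)]
      have h1 : Nat.card {x // Quotient.mk r x = q'} ≤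
          ∑ x ∈ Finset.univ.erase q, Nat.card {y // Quotient.mk r y = x} :=
        Finset.single_le_sum (f := fun x => Nat.card {y // Quotient.mk r y = x}) (fun _ _ => Nat.zero_le _)
          (Finset.mem_erase.mpr ⟨hq', Finset.mem_univ _⟩)
      have h2 := hpos q'
      omega
    have hQlt : Nat.card (Quotient r) < n := by
      rw [← hΩ]
      by_contra hge
      have hcard : Nat.card (Quotient r) = Nat.card Ω :=
        le_antisymm (Nat.card_le_card_of_surjective _ hsurj) (by omega)
      have hinj : Function.Injective (Quotient.mk r) := by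
        have := (Nat.bijective_iff_surjective_and_card (Quotient.mk r)).mpr ⟨hsurj, hcard.symm⟩
        exact this.injective
      apply hN0
      rw [eq_bot_iff]
      intro k hk
      rw [Subgroup.mem_bot]
      apply Subtype.ext
      apply Equiv.ext
      intro x
      exact (hinj ((hr x _).mpr ⟨k, hk, rfl⟩)).symm
    have hψ : Nat.card ψ.range ^ 3 ≤ 24 ^ (Nat.card (Quotient r) - 1) := by
      have hsol : Group.IsSolvable ψ.range :=
        Group.isSolvable_of_surjective (MonoidHom.rangeRestrict_surjective ψ)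
      exact ih _ hQlt (Quotient r) ψ.range hsol rfl (by omega)
    have hφ : ∀ q, Nat.card (φ q).range ^ 3 ≤ 24 ^ (Nat.card {x // Quotient.mk r x = q} - 1) := by
      intro q
      have hsol : Group.IsSolvable (φ q).range :=
        Group.isSolvable_of_surjective (MonoidHom.rangeRestrict_surjective (φ q))
      exact ih _ (hfib q) {x // Quotient.mk r x = q} (φ q).range hsol rfl (hpos q)
    calc Nat.card G ^ 3 ≤ (Nat.card ψ.range * ∏ q, Nat.card (φ q).range) ^ 3 :=
          Nat.pow_le_pow_left hle 3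
      _ = Nat.card ψ.range ^ 3 * ∏ q, Nat.card (φ q).range ^ 3 := by
          rw [mul_pow, Finset.prod_pow]
      _ ≤ 24 ^ (Nat.card (Quotient r) - 1) * ∏ q, 24 ^ (Nat.card {x // Quotient.mk r x = q} - 1) :=
          Nat.mul_le_mul hψ (Finset.prod_le_prod' (fun q _ => hφ q))
      _ = 24 ^ ((Nat.card (Quotient r) - 1) + ∑ q, (Nat.card {x // Quotient.mk r x = q} - 1)) := by
          rw [Finset.prod_pow_eq_pow_sum, ← pow_add]
      _ = 24 ^ (n - 1) := by
          congr 1
          have h1 : ∑ q : Quotient r, (Nat.card {x // Quotient.mk r x = q} - 1) + Nat.card (Quotient r)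
              = ∑ q : Quotient r, Nat.card {x // Quotient.mk r x = q} := by
            have h2 : Nat.card (Quotient r) = ∑ _q : Quotient r, 1 := by
              rw [Finset.sum_const, Finset.card_univ, smul_eq_mul, mul_one, Nat.card_eq_fintype_card]
            rw [h2, ← Finset.sum_add_distrib]
            apply Finset.sum_congr rfl
            intro q _
            have := hpos q
            omega
          omega

end Cfsg.Agent.H489
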