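import Cfsg.Agent.H489.DegBase
import Cfsg.Agent.LThreeCo1.Ev
import Cfsg.Agent.H921.SporCo
import Cfsg.Agent.S2046
import Cfsg.Agent.S2047
import Cfsg.Agent.CoOneType.CoAp
import Cfsg.Agent.CoOneType.CoQZ
import Cfsg.Agent.CoOneType.CoW
import Cfsg.Agent.Prune
set_option linter.all false
prune_inst 0x7f00000000000000000000000000000000000000000000000000000000000000000000000000000000000000000000000000000000000000000000000000000000000000000000000000000000000000003fffffffffffffffffffffffffffbeffbdffffffff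
open scoped Cfsg.Agent.FastGrp

/-!
# `HS` and `McL` have no projective representations of degree at most 12 (helper489)

`a`, `b` generate an extraspecial group of order 125 with centre `⟨c⟩`, `y c y⁻¹ = c²`: degree at least 20 in
characteristic different from 5; for `McL` and for `HS` itself `2⁴ : A₆` gives degree at least 15 in odd characteristic.
-/

set_option autoImplicit false
set_option maxRecDepth 100000

universe u v

namespace Cfsg.Agent.H489.Deg.Co

open Subgroup Cfsg Cfsg.Agent.SporadicA Cfsg.Agent.SporadicStructure.Co0Matrix Cfsg.Agent.CoOneType.CoEval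
open Cfsg.Agent.LThreeCo1.Ev Cfsg.Agent.H912.Bd Cfsg.Agent.H921.Spor Cfsg.Agent.H915.LD
open Matrix (GeneralLinearGroup)

theorem stab_of_ap {g : Co0} {R : List (List ℤ)} (hR : _root_.Cfsg.Agent.CoOneType.CoEval.Rep g R) {v : leechLattice} {l : List ℤ} (hl : l.length ≤ 24)
    (hv : (v : GolayPt → ℤ) = vec l) (h : eqL (ap R l) l = true) : g.1 v = v :=
  Subtype.ext (by rw [hR.apply hl hv, eqL_eq h, hv])

def lU : List ℤ := [4, 0, 0, 0, 0, 0, 0, 0, 0, 0, 0, 0, 0, 0, 0, 0, 0, 0, 0, 0, 0, 0, 0, 4]
def lU' : List ℤ := [-4, 0, 0, 0, 0, 0, 0, 0, 0, 0, 0, 0, 0, 0, 0, 0, 0, 0, 0, 0, 0, 0, 0, 4]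
def lV : List ℤ := [-1, -1, -1, -1, -1, -1, -1, -1, -1, -1, -1, -1, -1, -1, -1, -1, -1, -1, -1, -1, -1, -1, -1, -5]

theorem vU : ((Spor.leechU : leechLattice) : GolayPt → ℤ) = vec lU := by
  have h : ∀ p, Spor.vecU p = vec lU p := by decide +kernel
  funext p; exact h p
theorem vU' : ((Spor.leechU' : leechLattice) : GolayPt → ℤ) = vec lU' := by
  have h : ∀ p, Spor.vecU' p = vec lU' p := by decide +kernel
  funext p; exact h p
theorem vV : ((Spor.leechV : leechLattice) : GolayPt → ℤ) = vec lV := by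
  have h : ∀ p, Spor.vecV p = vec lV p := by decide +kernel
  funext p; exact h p

theorem mem_Co3 {g : Co0} {R : List (List ℤ)} (hR : _root_.Cfsg.Agent.CoOneType.CoEval.Rep g R) (hv : eqL (ap R lV) lV = true) : g.1 ∈ Spor.Co3 :=
  ⟨g.2, MulAction.mem_stabilizer_iff.2 (stab_of_ap hR (by decide) vV hv)⟩

theorem mem_McL {g : Co0} {R : List (List ℤ)} (hR : _root_.Cfsg.Agent.CoOneType.CoEval.Rep g R) (hv : eqL (ap R lV) lV = true)
    (hu : eqL (ap R lU) lU = true) : g.1 ∈ Spor.McL :=
  ⟨mem_Co3 hR hv, MulAction.mem_stabilizer_iff.2 (stab_of_ap hR (by decide) vU hu)⟩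

theorem mem_HS {g : Co0} {R : List (List ℤ)} (hR : _root_.Cfsg.Agent.CoOneType.CoEval.Rep g R) (hv : eqL (ap R lV) lV = true)
    (hu : eqL (ap R lU') lU' = true) : g.1 ∈ Spor.HS :=
  ⟨mem_Co3 hR hv, MulAction.mem_stabilizer_iff.2 (stab_of_ap hR (by decide) vU' hu)⟩

theorem ok_getD {N : List ℕ} (h : N.all okN = true) (h0 : N ≠ []) (i : ℕ) : okN (N.getD i (N.head h0)) = true := by
  rw [List.all_eq_true] at h
  by_cases hi : i < N.length
  · rw [List.getD_eq_getElem _ _ hi]
    exact h _ (List.getElem_mem hi)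
  · rw [List.getD_eq_default _ _ (by omega)]
    exact h _ (List.head_mem h0)

section

variable {N : List ℕ} (hN : N.all okN = true) (h0 : N ≠ [])

/-- the elements -/
noncomputable def el (i : ℕ) : Co0 := _root_.Cfsg.Agent.SporadicStructure.Co0Matrix.mk (ok_of_okN (ok_getD hN h0 i))

/-- their matrices -/
def Ms (N : List ℕ) (h0 : N ≠ []) (i : ℕ) : List (List ℤ) := dec (N.getD i (N.head h0))

theorem rep_el (i : ℕ) : _root_.Cfsg.Agent.CoOneType.CoEval.Rep (el hN h0 i) (Ms N h0 i) := rep_mk _

/-- the words in the elements of a subgroup of `Co₀` -/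
noncomputable def wd (X : Subgroup (Equiv.Perm leechLattice)) (hX : ∀ i, (el hN h0 i).1 ∈ X) : Wd X where
  W := fun w => (w.map fun i => (⟨(el hN h0 i).1, hX i⟩ : X)).prod
  nil := rfl
  app := fun u v => by rw [List.map_append, List.prod_append]
  eq := eqB (Ms N h0)
  eq_sound := by
    intro u v h
    have h1 : ∀ w : List ℕ, (((w.map fun i => (⟨(el hN h0 i).1, hX i⟩ : X)).prod : X) : Equiv.Perm leechLattice) =
        ((w.map (el hN h0)).prod : Co0).1 := by
      intro w
      induction w with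
      | nil => rfl
      | cons a w ih =>
        rw [List.map_cons, List.prod_cons, List.map_cons, List.prod_cons, Subgroup.coe_mul, ih]
        rfl
    apply Subtype.ext
    rw [h1, h1, eq_of_eqB (rep_el hN h0) h]
  ne := fun u => neB' (Ms N h0) u []
  ne_sound := by
    intro u h h2
    have h1 : ∀ w : List ℕ, (((w.map fun i => (⟨(el hN h0 i).1, hX i⟩ : X)).prod : X) : Equiv.Perm leechLattice) =
        ((w.map (el hN h0)).prod : Co0).1 := by
      intro w
      induction w with
      | nil => rfl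
      | cons a w ih =>
        rw [List.map_cons, List.prod_cons, List.map_cons, List.prod_cons, Subgroup.coe_mul, ih]
        rfl
    apply ne_of_neB' (rep_el hN h0) h
    apply Subtype.ext
    rw [← h1, ← h1, h2]
    rfl

theorem wdQ_eq (X : Subgroup (Equiv.Perm leechLattice)) (hX : ∀ i, (el hN h0 i).1 ∈ X) : (wd hN h0 X hX).eq =
    fun u v => eqL (Cfsg.Agent.CoOneType.CoW.foldQ (Ms N h0) u betaL) (Cfsg.Agent.CoOneType.CoW.foldQ (Ms N h0) v betaL) := by
  show eqB (Ms N h0) = _
  delta eqB
  rewrite [Cfsg.Agent.CoOneType.CoW.of_eq foldZ_eq]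
  rfl

theorem wdQ_ne (X : Subgroup (Equiv.Perm leechLattice)) (hX : ∀ i, (el hN h0 i).1 ∈ X) : (wd hN h0 X hX).ne =
    fun u => !(eqL (Cfsg.Agent.CoOneType.CoW.foldQ (Ms N h0) u betaL) (Cfsg.Agent.CoOneType.CoW.foldQ (Ms N h0) [] betaL)) &&
      Nat.beq (Cfsg.Agent.CoOneType.CoW.foldQ (Ms N h0) u betaL).length 24 && Nat.beq (Cfsg.Agent.CoOneType.CoW.foldQ (Ms N h0) [] betaL).length 24 := by
  show (fun u => neB' (Ms N h0) u []) = _
  delta neB'
  rewrite [Cfsg.Agent.CoOneType.CoW.of_eq foldZ_eq]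
  rfl

end

/-- codes of the matrices -/
def nHS : List ℕ := [
  0xb4210942108425084a50942128420e849d283a4e74a1294212849d093a5083a4e83a5294a1294212839d0949d09421074210841d083ad07420e842129421074210842d0839d07420e84212839ce84a5293a127421284a5093a50839d284a5274a0e9421284a50749d0849d284a5293a0e9420e839d094a5084a5283a5294a0e7420e84a50939d0849ce849ce94a129420e84a50949d09421074210841d0839d0b420e84212849d2839d294a127421283a5074a5083a52849d274a129420e83a5093a5084a4e849d274a0e74212849d094a5084a52849d293a1294212849d0739d094210b4210841d0839d07420e8421284a5284a4e73a127421283a50949d083a5284a4e94a127420e849d074a509421074210841d0839d0742168421284a4e84a4e94a0e9421283a5073a5083a52839ce93a0e9421284a5094a509421074210841d0859d07420e8421284a4e83a5273a129420e84a5074a5074210942108425084a509421284216,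
  0xb4a108421094a5084a10842508420e93a108421073ad083a10841d08421293a1084210b39d083a10841d0842128425293a528420e7424e94a12939d0841d294a4e8420e7425274a0e94a5093a1084210739d083a10842d0842128424e94a5284212741ce73a1294a50841d274a52842129425273a12939d08425273a4e842129424e93a0e94a5084252749ce84212741d294a1293a5093a1084210759d083a10841d084212841ce949ce842129424e94a12949d084252749d28420e9424e74a1274a50841d2939d2842127425293a1274a508424e939d2842129425274a0e93a5093a1084210739d085a10841d08421295a1084210739d083a10841d0842128424e74a52842127425294a0e749d0841d294a5284212941ce94a0e73a508424e94a4e8420e9425293a1273a5084252949d28420e941d293a0e949d08425293a4e84212941d274a12749d0841ce73a528420e941d294a1294a5074a108421094a5084a108425084216,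
  0xb42108421284a1084a129421084a0e942108420e83a1083a167421083a12839d2749d09425294250849ce9425083a4e93a509425294250839d2941d0942108420e83a1083a0e7421085a12849ce73a509424e941d084a529425083a4e949d0941d2941d084a527425083a5274a50941ce7425083a529425084a52739d0741d29425084a52941d0849d2939d0942527425083a5274250942108420e83a1085a0e7421083a12942108420e83a1083a0eb421083a12942108421683a1083a0e7421083a12849d294a50941d2741d0849d2941d084a52949d09424e941d083a4e941d083a5293a5074252741d084a4e9425084a4e949d07424e74250849d294250942108420e85a1083a0e7421083a1284a5274a5074252941d0839d274250849ce94a50741d29425083a4e9425084a5293a50941ce94250849ce7425084a4e74a50942527425084a4e741d0839d294a507424e9425084a52741d0742108421284a1084a129421084a16,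
  0xb42508421084210842528421294a0e84a1274a4e94a4e93a10949d0841d084a0e949d274a4e74a10949d08425084a0e93a4e949d273a1094a508425083a12939ce93a4e94a1094a508425083a1294a52739d293a10949d08425084a0e94a52939ce94a1074a50841d083a0e74a4e74a5294a1074a508425084a1294a4e73a5274a1093a50841d0941d08421084210841ce8420eb3a1284a1273a5293a5274a10749d084250942d08421084210841ce8420e73a12941d08421084210841ce8421673a12941d08421084210842ce8420e73a12941d08421084210841ce8420e75a1283a0e93a5294a5294a10939d0841d084a12949ce949d294a10739d08425083a12949d294a5273a1074a50841d084a1293a5274a4e93a1073a508425083a1274a52949ce74a1093a5084250941d08421084210841d68420e73a1284a12739d2749d294a1094a50841d084a0e749d293a5293a1093a5084250742508421084210842528421294a16]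

theorem okHS : nHS.all okN = true :=
  List.all_eq_true.2 fun n hn => Cfsg.Agent.CoOneType.CoQ.okz_of (List.all_eq_true.1
    (by decide +kernel : nHS.all (fun n => Cfsg.Agent.CoOneType.CoQ.okq (dec n) (_root_.Cfsg.Agent.LThreeCo1.Ev.tr (dec n))) = true) n hn)
theorem neHS : nHS ≠ [] := by decide +kernel
theorem fixHS : nHS.all (fun n => eqL (ap (dec n) lV) lV && eqL (ap (dec n) lU') lU') = true := by (rewrite [Cfsg.Agent.CoOneType.CoAp.ap_F]; decide +kernel)

theorem memHS (i : ℕ) : (el okHS neHS i).1 ∈ Spor.HS := by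
  have h := List.all_eq_true.1 fixHS (nHS.getD i (nHS.head neHS)) (by
    by_cases hi : i < nHS.length
    · rw [List.getD_eq_getElem _ _ hi]
      exact List.getElem_mem hi
    · rw [List.getD_eq_default _ _ (by omega)]
      exact List.head_mem _)
  rw [Bool.and_eq_true] at h
  exact mem_HS (rep_el okHS neHS i) h.1 h.2

/-- the words -/
noncomputable def wdHS : Wd Spor.HS := wd okHS neHS Spor.HS memHS

theorem hs_five {F : Type u} [Field F] (h5 : (5 : F) ≠ 0) : Bd F 5 20 Spor.HS :=
  wdHS.bd_ext (r := 5) (a := [0]) (b := [1]) (z := [2]) (y := [3]) (k := 2) 4 (by norm_num) (by exact_mod_cast h5)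
    (by delta Wd.chkX wdHS; rewrite [wdQ_eq, wdQ_ne]; decide +kernel) (by decide)

/-- codes of the matrices -/
def nMcL : List ℕ := [
  0xb421084a1083a508425084a1084a129421083a10849d0842d083a1083a0e7421084a1085a508425084a1084a12849d2741d29420e74a1294252941d084a529424e9420e94a0e9424e741d0849ce742529421294a0e7424e9425083a4e742529420e94a12941d2742509421083a10849d0841d083a1085a0e849ce9424e7420e93a12942529425084a52742527421293a1274252741d084a52741ce7421294a0e941d29425084a4e941ce9421274a127425274250839d2941d29421293a0e94252742509421085a10849d0841d083a1083a0e9421083a1084ad0841d083a1083a0e83a4e941d27421294a129424e941d0839d29424e9421294a12741d2941d09421083a10849d0841d085a1083a0e83a527424e9421273a129424e9425084a4e942529421273a0e941d2941d084a52941d29420e93a12741ce9425083a52942527420e74a0e7425294250849d2942527421274a12941ce742509421083a10849d0841d083a1083a16,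
  0xac6317ce318c6318c5f18c5ef8bdf38c6317be318c5ad8c5f18c6736bdef7be6f8c66f7bdef9be2f7ce319c6318c6317bdb18c6318b66d8c66f8bdef7ce6f8c5ef7be6f7be339be317c6318b62d7be318c6318c5f18b66f8be6f7cdef8c6737cdf37be2f7be317c6318c62d7bdb18c6318c5f16c5f38cdef8b6319be318c6318b5f18c5ef6cdef8c6317be318b5b18c6718b5ef8cdef8b6317be316c6316c6718c5f38bdef8c6317be2d8c6318c6716c5ef6be6f8c6317be318c62d6c5ed8c5ef8ce6f7bdef8c5ef9bdf37ce2f9ce317c6317bdf38c5f37be6f9ce2f7be317c6318c6319bdb16c5b18c5f18c5ef8be6f8c5ad9be318c62d8c6718c5ef8bdef8c5b17be2d6c6318c5f18c66f8cdef8c6319be318b6316c5f16c66f8bdef8c6319be2d8c6318c5ed8b5f38bdef7bdf38c5ef9cdef7be337be319c6318c5b17be318b6318b5f18c5f38be6f9bdef8d5ef7bdef7be2f7be317c62d9bdef8b5ef7bdef7be2f7be317c635,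
  0xac6318c5ef8c6338c62f8c5ef8be338b62d8c5ef8c62f8b6338c5f38be2f8c5b18c66f8c5af8b62f8c5ef8ce2f8c6318b5ef8c62f6c6338c5ef8cdaf7ce6f7be319bdf17bdf17be319c6718c6316c66f8c62f8c6336c5ef6be2f8c62d8c5f38c62f8c62f8b5ef6ce2f8c6316c5ef6b62f8c62f8c5f38ce2f7bdef7be317cdf19ce717be319c5f18b6318b6738b62f8c62f8c5ef8be2f8c6318b5ef8c5af8c62f8c6736be2f7bdef7ce319bdf17cdf19ce317c5f17bdf37be317ce717bdf19be317c6718c62d8c66f6c62f6c62f8c66f8be2f7cdef9be317be719bdf17ce317c5f18b6318c5ef8c62f8c5af6c66f8ce2f7be739ce317bdf17be717be317c5f18c5b18c5ef8b62f8c6338b66f8be2f8c6318c5f36c5af8c5b38c5ef8be2f8c6318c66f8c62f8c5af8b5f38bdaf8c6316c5f38c62f8b62f8c66f8bdaf8c5b18c5f38c62f6c62f6c5f38be2f9bdef7be317bdf57bdf17be317c5ed9bdef7be317bded7bdf17be317c5f5,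
  0xb425284252842108421284210841d284a1074a1073a5293a5074a5274a1084a1093a1074a5294a5093a4e73a10941ce841ce8421084216842108424e83a1094a10749d2949d073a5294a1084a1073a1094a52739d093a5294a1084a1094a1094a4e74a50739d274a107425284252842108421284210842d283a1094a1094a52939d0949ce74a10941ce841d6842108420e842108424e83a1093a10939d274a5094a5274a1084a1093a1073a4e949d0949d294a1084a1074a10949ce949d094a5273a1083a1094a1093a4e93a5093a5293a10942ce841ce842108420e842108424e84a1094a10749ce73a5094a4e94a1084a1074a10939d294a50939ce94a1083a1073a1094a4e94a5074a4e94a10941d6841ce842108420e842108424e941ce842ce842108420e842108424e84a1094a1093a52749d074a4e93a1083a1074a1074a5274a50949d293a1084a1093a10949d293a50749d293a10941ce841ce842108420e8421084256]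

theorem okMcL : nMcL.all okN = true :=
  List.all_eq_true.2 fun n hn => Cfsg.Agent.CoOneType.CoQ.okz_of (List.all_eq_true.1
    (by decide +kernel : nMcL.all (fun n => Cfsg.Agent.CoOneType.CoQ.okq (dec n) (_root_.Cfsg.Agent.LThreeCo1.Ev.tr (dec n))) = true) n hn)
theorem neMcL : nMcL ≠ [] := by decide +kernel
theorem fixMcL : nMcL.all (fun n => eqL (ap (dec n) lV) lV && eqL (ap (dec n) lU) lU) = true := by (rewrite [Cfsg.Agent.CoOneType.CoAp.ap_F]; decide +kernel)

theorem memMcL (i : ℕ) : (el okMcL neMcL i).1 ∈ Spor.McL := by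
  have h := List.all_eq_true.1 fixMcL (nMcL.getD i (nMcL.head neMcL)) (by
    by_cases hi : i < nMcL.length
    · rw [List.getD_eq_getElem _ _ hi]
      exact List.getElem_mem hi
    · rw [List.getD_eq_default _ _ (by omega)]
      exact List.head_mem _)
  rw [Bool.and_eq_true] at h
  exact mem_McL (rep_el okMcL neMcL i) h.1 h.2

/-- the words -/
noncomputable def wdMcL : Wd Spor.McL := wd okMcL neMcL Spor.McL memMcL

theorem mcl_five {F : Type u} [Field F] (h5 : (5 : F) ≠ 0) : Bd F 5 20 Spor.McL :=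
  wdMcL.bd_ext (r := 5) (a := [0]) (b := [1]) (z := [2]) (y := [3]) (k := 2) 4 (by norm_num) (by exact_mod_cast h5)
    (by delta Wd.chkX wdMcL; rewrite [wdQ_eq, wdQ_ne]; decide +kernel) (by decide)

end Cfsg.Agent.H489.Deg.Co
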