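import Mathlib
import Cfsg.Agent.H489.DixonPerm
import Cfsg.Agent.Lib.MinNormal
import Cfsg.Agent.Lib.Cores
import Cfsg.Prelude.Def_KGroupFacts
import Cfsg.Agent.H489.OutExc
import Cfsg.Agent.H489.OutSpor
import Cfsg.Agent.S0493
import Cfsg.Agent.FastGrp
import Cfsg.Agent.Prune
set_option linter.all false
prune_inst 0x7f00000000000000000000000000000000000000000000000000000000000000000000000000000000000000000000000000000000000000000000000000000000000000000000000000000000000000003fffffffffffffffffffffffffffbeffbdffffffff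
open scoped Cfsg.Agent.FastGrp

-- part: H489/Supplement
section
/-!
# Solvable supplements

`exists_solvable_supplement`: a normal subgroup `R` of a finite group `G` with solvable quotient has a solvable
supplement. `card_quot_pow_three_le`: Dixon's bound for solvable quotients of permutation groups.
-/

set_option autoImplicit false

namespace Cfsg.Agent.H489

open Subgroup

universe u

/-- **Solvable supplement** of a normal subgroup with solvable quotient. -/
theorem exists_solvable_supplement {G : Type*} [Group G] [Finite G] (R : Subgroup G) [hR : R.Normal]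
    (hs : Group.IsSolvable (G ⧸ R)) : ∃ H : Subgroup G, Group.IsSolvable H ∧ R ⊔ H = ⊤ := by
  have hfin : {H : Subgroup G | R ⊔ H = ⊤}.Finite := Set.toFinite _
  obtain ⟨H, hH, hmin⟩ := hfin.exists_minimal ⟨⊤, by simp only [_root_.Set.mem_ofPred_eq, _root_.le_top, _root_.sup_of_le_right]⟩
  have hH' : R ⊔ H = ⊤ := hH
  refine ⟨H, ?_, hH'⟩
  -- `R ∩ H ≤ Φ(H)`
  have hK : R.subgroupOf H ≤ frattini H := by
    unfold frattini Order.radical
    refine le_iInf₂ ?_
    intro M hM
    by_contra hnot
    have h1 : R.subgroupOf H ⊔ M = ⊤ := by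
      rcases hM.le_iff.mp (le_sup_right : M ≤ R.subgroupOf H ⊔ M) with h | h
      · exact h
      · exfalso
        apply hnot
        rw [← h]
        exact le_sup_left
    have h2 : (R ⊓ H) ⊔ M.map H.subtype = H := by
      have h3 := congrArg (Subgroup.map H.subtype) h1
      rw [Subgroup.map_sup, Subgroup.subgroupOf_map_subtype, ← MonoidHom.range_eq_map, H.range_subtype] at h3
      exact h3
    have h4 : R ⊔ M.map H.subtype = ⊤ := by
      rw [eq_top_iff, ← hH', sup_le_iff]
      refine ⟨le_sup_left, ?_⟩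
      conv_lhs => rw [← h2]
      exact sup_le_sup_right inf_le_left _
    have h5 : M.map H.subtype ≤ H := Subgroup.map_subtype_le M
    have h6 : H ≤ M.map H.subtype := hmin h4 h5
    apply hM.1
    rw [eq_top_iff]
    rintro x -
    obtain ⟨y, hy, hyx⟩ := h6 x.2
    have : y = x := Subtype.ext hyx
    rwa [← this]
  have hnil : Group.IsNilpotent (frattini H) := frattini_nilpotent
  have hsolF : Group.IsSolvable (frattini H) := inferInstance
  have hsolK : Group.IsSolvable (R.subgroupOf H) :=
    Group.isSolvable_of_isSolvable_injective (Subgroup.inclusion_injective hK)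
  have hquot : Group.IsSolvable (H ⧸ R.subgroupOf H) := by
    have hf : Function.Injective (QuotientGroup.map (R.subgroupOf H) R H.subtype (by
      intro x hx
      exact hx)) := by
      rw [injective_iff_map_eq_one]
      intro x hx
      obtain ⟨y, rfl⟩ := QuotientGroup.mk'_surjective _ x
      have h7 : (QuotientGroup.mk (H.subtype y) : G ⧸ R) = 1 := hx
      rw [QuotientGroup.eq_one_iff] at h7
      exact (QuotientGroup.eq_one_iff y).mpr h7
    exact Group.isSolvable_of_isSolvable_injective hf
  exact (Group.isSolvable_iff_subgroup_quotient (R.subgroupOf H)).mpr ⟨hsolK, hquot⟩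

/-- **Dixon's bound for solvable quotients** of permutation groups. -/
theorem index_pow_three_le {Ω : Type u} [Finite Ω] [Nonempty Ω] (P : Subgroup (Equiv.Perm Ω))
    (R : Subgroup P) [R.Normal] (hs : Group.IsSolvable (P ⧸ R)) :
    R.index ^ 3 ≤ 24 ^ (Nat.card Ω - 1) := by
  obtain ⟨H, hH, hRH⟩ := exists_solvable_supplement R hs
  have h1 : R.index ≤ Nat.card H := by
    rw [← Subgroup.relIndex_top_right, ← hRH, Subgroup.relIndex_sup_left]
    exact Nat.le_of_dvd Nat.card_pos (Subgroup.relIndex_dvd_card R H)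
  have h2 : Nat.card (H.map P.subtype) = Nat.card H :=
    Nat.card_congr (H.equivMapOfInjective _ P.subtype_injective).toEquiv.symm
  have h3 : Group.IsSolvable (H.map P.subtype) :=
    Group.isSolvable_of_surjective (f := (H.equivMapOfInjective _ P.subtype_injective).toMonoidHom)
      (H.equivMapOfInjective _ P.subtype_injective).surjective
  have h4 := card_pow_three_le (Nat.card Ω) Ω (H.map P.subtype) h3 rfl Nat.card_pos
  rw [h2] at h4
  exact (Nat.pow_le_pow_left h1 3).trans h4

end Cfsg.Agent.H489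
end

-- part: H489/SocleAct
section
/-!
# The action of a finite group on the simple factors of a minimal normal subgroup
-/

set_option autoImplicit false

namespace Cfsg.Agent.H489

open Subgroup Cfsg

universe u

section

variable {G : Type u} [Group G]

theorem mem_map_conj {H : Subgroup G} {g x : G} :
    x ∈ H.map (MulAut.conj g).toMonoidHom ↔ g⁻¹ * x * g ∈ H := by
  constructor
  · rintro ⟨y, hy, rfl⟩
    have : g⁻¹ * ((MulAut.conj g).toMonoidHom y) * g = y := by
      show g⁻¹ * (g * y * g⁻¹) * g = y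
      group
    rw [this]; exact hy
  · intro h
    refine ⟨_, h, ?_⟩
    show g * (g⁻¹ * x * g) * g⁻¹ = x
    group

/-- A simple nonabelian subgroup normalised by the join of the commuting simple subgroups `T i` and contained in it
is one of the `T i`. -/
theorem exists_eq_of_simple {m : ℕ} {T : Fin m → Subgroup G} (hsimple : ∀ i, IsSimpleGroup (T i))
    {S : Subgroup G} (hS : IsSimpleGroup S) (hSle : S ≤ ⨆ i, T i)
    (hSn : (⨆ i, T i) ≤ normalizer (S : Set G)) (hTn : ∀ i, (⨆ i, T i) ≤ normalizer (T i : Set G))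
    (hSna : ∃ a ∈ S, ∃ b ∈ S, a * b ≠ b * a) : ∃ i, S = T i := by
  by_contra hne
  push Not at hne
  -- `S ∩ T i = 1`
  have hint : ∀ i, S ⊓ T i = ⊥ := by
    intro i
    have hn1 : ((S ⊓ T i).subgroupOf S).Normal := by
      constructor
      intro x hx g
      rw [mem_subgroupOf] at hx ⊢
      refine ⟨S.mul_mem (S.mul_mem g.2 hx.1) (S.inv_mem g.2), ?_⟩
      exact (mem_normalizer_iff.mp (hTn i (hSle g.2)) _).mp hx.2
    have hn2 : ((S ⊓ T i).subgroupOf (T i)).Normal := by
      constructor
      intro x hx g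
      rw [mem_subgroupOf] at hx ⊢
      refine ⟨?_, (T i).mul_mem ((T i).mul_mem g.2 hx.2) ((T i).inv_mem g.2)⟩
      exact (mem_normalizer_iff.mp (hSn (le_iSup T i g.2)) _).mp hx.1
    have hTi := hsimple i
    rcases hn1.eq_bot_or_eq_top with h1 | h1
    · rw [subgroupOf_eq_bot, disjoint_iff] at h1
      rw [← h1, inf_assoc, inf_comm (T i) S, ← inf_assoc, inf_idem]
    · rcases hn2.eq_bot_or_eq_top with h2 | h2
      · rw [subgroupOf_eq_bot, disjoint_iff] at h2
        rw [← h2, inf_assoc, inf_idem]
      · exfalso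
        rw [subgroupOf_eq_top] at h1 h2
        exact hne i (le_antisymm (h1.trans inf_le_right) (h2.trans inf_le_left))
  have hcomm : ∀ i, ∀ s ∈ S, ∀ x ∈ T i, s * x = x * s := by
    intro i s hs x hx
    have h1 : s * x * s⁻¹ * x⁻¹ ∈ S ⊓ T i := by
      constructor
      · have h2 : x * s⁻¹ * x⁻¹ ∈ S := (mem_normalizer_iff.mp (hSn (le_iSup T i hx)) _).mp (S.inv_mem hs)
        have h3 := S.mul_mem hs h2
        have h4 : s * (x * s⁻¹ * x⁻¹) = s * x * s⁻¹ * x⁻¹ := by group
        rwa [h4] at h3
      · have h2 : s * x * s⁻¹ ∈ T i := (mem_normalizer_iff.mp (hTn i (hSle hs)) _).mp hx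
        exact (T i).mul_mem h2 ((T i).inv_mem hx)
    rw [hint, mem_bot] at h1
    have h2 : s * x = x * s := by
      have h3 : s * x * s⁻¹ * x⁻¹ = 1 := h1
      rw [mul_inv_eq_one, mul_inv_eq_iff_eq_mul] at h3
      exact h3
    exact h2
  obtain ⟨a, ha, b, hb, hab⟩ := hSna
  apply hab
  have h1 : (⨆ i, T i) ≤ centralizer {a} := by
    rw [iSup_le_iff]
    intro i x hx
    rw [mem_centralizer_singleton_iff]
    exact (hcomm i a ha x hx).symm
  have h2 := mem_centralizer_singleton_iff.mp (h1 (hSle hb))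
  exact h2.symm

/-- The homomorphism to the symmetric group of the set of simple factors. -/
theorem exists_perm {m : ℕ} {T : Fin m → Subgroup G} (hinj : Function.Injective T)
    (hperm : ∀ (g : G) (i : Fin m), ∃ j, (T i).map (MulAut.conj g).toMonoidHom = T j) :
    ∃ σ : G →* Equiv.Perm (Fin m), ∀ g i, (T i).map (MulAut.conj g).toMonoidHom = T (σ g i) := by
  choose f hf using hperm
  have h1 : ∀ i, f 1 i = i := by
    intro i
    apply hinj
    rw [← hf]
    exact Cfsg.Agent.Lib.MinNormal.map_conj_one (T i)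
  have h2 : ∀ g h i, f (g * h) i = f g (f h i) := by
    intro g h i
    apply hinj
    rw [← hf, ← hf, ← hf, Cfsg.Agent.Lib.MinNormal.map_conj_map_conj]
  refine ⟨{ toFun := fun g => ⟨f g, f g⁻¹, fun i => by rw [← h2, inv_mul_cancel, h1],
            fun i => by rw [← h2, mul_inv_cancel, h1]⟩
            map_one' := by ext i; exact congrArg Fin.val (h1 i)
            map_mul' := fun g h => by ext i; exact congrArg Fin.val (h2 g h i) }, fun g i => hf g i⟩

/-- An element inducing inner automorphisms on all factors lies in `N C(N)`. -/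
theorem mem_sup_of_inner {m : ℕ} {T : Fin m → Subgroup G} {N : Subgroup G} (hN : ⨆ i, T i = N)
    (hcomm : ∀ i j, i ≠ j → ∀ x ∈ T i, ∀ y ∈ T j, Commute x y) {k : G}
    (hk : ∀ i, ∃ t ∈ T i, ∀ x ∈ T i, k * x * k⁻¹ = t * x * t⁻¹) :
    k ∈ N ⊔ centralizer (N : Set G) := by
  classical
  choose t ht htk using hk
  have key : ∀ s : Finset (Fin m), ∃ n ∈ N, (∀ i ∈ s, ∀ x ∈ T i, n⁻¹ * k * x * (n⁻¹ * k)⁻¹ = x) ∧
      ∀ j, j ∉ s → ∀ x ∈ T j, n * x = x * n := by
    intro s
    induction s using Finset.induction_on with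
    | empty => exact ⟨1, N.one_mem, by simp only [_root_.Finset.notMem_empty, _root_.inv_one, _root_.one_mul, _root_.IsEmpty.forall_iff, _root_.implies_true], by simp⟩
    | insert a s ha ih =>
      obtain ⟨n, hnN, hn1, hn2⟩ := ih
      refine ⟨n * t a, N.mul_mem hnN (by rw [← hN]; exact le_iSup T a (ht a)), ?_, ?_⟩
      · intro i hi x hx
        have h0 : (n * t a)⁻¹ * k * x * ((n * t a)⁻¹ * k)⁻¹
            = (t a)⁻¹ * (n⁻¹ * k * x * (n⁻¹ * k)⁻¹) * t a := by group
        rw [h0]
        rcases Finset.mem_insert.mp hi with rfl | his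
        · -- on `T a`
          have h1 : n⁻¹ * k * x * (n⁻¹ * k)⁻¹ = n⁻¹ * (k * x * k⁻¹) * n := by group
          rw [h1, htk i x hx]
          have h2 : t i * x * (t i)⁻¹ ∈ T i := (T i).mul_mem ((T i).mul_mem (ht i) hx) ((T i).inv_mem (ht i))
          have h3 := hn2 i ha _ h2
          have h4 : n⁻¹ * (t i * x * (t i)⁻¹) * n = t i * x * (t i)⁻¹ := by
            rw [mul_assoc, ← h3, inv_mul_cancel_left]
          rw [h4]; group
        · rw [hn1 i his x hx]
          have hne : i ≠ a := fun h => ha (h ▸ his)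
          have h5 := (hcomm i a hne x hx (t a) (ht a)).eq
          rw [mul_assoc, h5, inv_mul_cancel_left]
      · intro j hj x hx
        have hja : j ≠ a := fun h => hj (h ▸ Finset.mem_insert_self _ _)
        have hjs : j ∉ s := fun h => hj (Finset.mem_insert_of_mem h)
        have h5 := (hcomm j a hja x hx (t a) (ht a)).eq
        have h6 := hn2 j hjs x hx
        rw [mul_assoc, ← h5, ← mul_assoc, h6, mul_assoc]
  obtain ⟨n, hnN, hn, -⟩ := key Finset.univ
  have h1 : n⁻¹ * k ∈ centralizer (N : Set G) := by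
    have h2 : N ≤ centralizer {n⁻¹ * k} := by
      rw [← hN, iSup_le_iff]
      intro i x hx
      rw [mem_centralizer_singleton_iff]
      have h3 := hn i (Finset.mem_univ i) x hx
      rw [mul_inv_eq_iff_eq_mul] at h3
      exact h3.symm
    rw [mem_centralizer_iff]
    intro x hx
    exact mem_centralizer_singleton_iff.mp (h2 hx)
  have h2 : k = n * (n⁻¹ * k) := by group
  rw [h2]
  exact mul_mem_sup hnN h1

end

end Cfsg.Agent.H489
end

-- part: H489/SocleIndex
section
/-!
# The index of the solvable residual: one minimal normal subgroup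
-/

set_option autoImplicit false

namespace Cfsg.Agent.H489

open Subgroup Cfsg

universe u

section

variable {G : Type u} [Group G] [Finite G]

/-- **Bound for the index** of `R C(N)`, `N = T₁ × ⋯ × T_m` a normal subgroup which is a product of nonabelian simple
groups, `N ≤ R`, `G / R` solvable. -/
theorem core_index {m : ℕ} (hm : 0 < m) {T : Fin m → Subgroup G} {N : Subgroup G} (hNn : N.Normal)
    (hN : ⨆ i, T i = N) (hsimple : ∀ i, IsSimpleGroup (T i))
    (hTn : ∀ i, N ≤ normalizer (T i : Set G)) (hTna : ∀ i, ∃ a ∈ T i, ∃ b ∈ T i, a * b ≠ b * a)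
    (hcomm : ∀ i j, i ≠ j → ∀ x ∈ T i, ∀ y ∈ T j, Commute x y) (hinj : Function.Injective T)
    (R : Subgroup G) (hR : R.Normal) (hs : Group.IsSolvable (G ⧸ R)) (hNR : N ≤ R) :
    24 * (R ⊔ centralizer (N : Set G)).index ^ 3 ≤ ∏ i, (24 * Nat.card (Out (T i)) ^ 3) := by
  classical
  have hTN : ∀ i, T i ≤ N := fun i => hN ▸ le_iSup T i
  -- the permutation action
  have hperm : ∀ (g : G) (i : Fin m), ∃ j, (T i).map (MulAut.conj g).toMonoidHom = T j := by
    intro g i
    have hS : IsSimpleGroup ((T i).map (MulAut.conj g).toMonoidHom) := by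
      have := hsimple i
      exact (((T i).equivMapOfInjective _ (MulAut.conj g).injective)).symm.isSimpleGroup
    have hmapN : N.map (MulAut.conj g).toMonoidHom = N := Cfsg.Agent.Lib.MinNormal.map_conj_normal g N
    refine exists_eq_of_simple hsimple hS ?_ ?_ ?_ ?_
    · rw [hN, ← hmapN]
      exact Subgroup.map_mono (hTN i)
    · rw [hN]
      exact Cfsg.Agent.Lib.MinNormal.le_normalizer_map_conj (hTn i) g
    · intro j
      rw [hN]
      exact hTn j
    · obtain ⟨a, ha, b, hb, hab⟩ := hTna i
      refine ⟨_, ⟨a, ha, rfl⟩, _, ⟨b, hb, rfl⟩, ?_⟩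
      intro h
      apply hab
      apply (MulAut.conj g).injective
      rw [map_mul, map_mul]
      exact h
  obtain ⟨σ, hσ⟩ := exists_perm hinj hperm
  -- the kernel acts on every factor
  have hKn : ∀ i, σ.ker ≤ normalizer (T i : Set G) := by
    intro i k hk
    have h1 := hσ k i
    rw [MonoidHom.mem_ker.mp hk, Equiv.Perm.one_apply] at h1
    rw [mem_normalizer_iff]
    intro h
    constructor
    · intro hh
      rw [← h1]
      exact ⟨h, hh, rfl⟩
    · intro hh
      rw [← h1, mem_map_conj] at hh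
      have h2 : k⁻¹ * (k * h * k⁻¹) * k = h := by group
      rwa [h2] at hh
  let θ : ∀ i, σ.ker →* Out (T i) := fun i =>
    (QuotientGroup.mk' (Inn (T i))).comp (((T i).normalizerMonoidHom).comp (inclusion (hKn i)))
  have hker : ∀ k : σ.ker, (∀ i, θ i k = 1) → (k : G) ∈ N ⊔ centralizer (N : Set G) := by
    intro k hk
    apply mem_sup_of_inner hN hcomm
    intro i
    have h1 : ((T i).normalizerMonoidHom (inclusion (hKn i) k)) ∈ Inn (T i) :=
      (QuotientGroup.eq_one_iff _).mp (hk i)
    obtain ⟨t, ht⟩ := h1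
    refine ⟨t, t.2, ?_⟩
    intro x hx
    have h2 := congrArg (fun f : MulAut (T i) => ((f ⟨x, hx⟩ : T i) : G)) ht
    exact h2.symm
  have hfinOut : ∀ i, Finite (Out (T i)) := fun i => inferInstance
  -- index in the kernel
  let Θ : σ.ker →* (∀ i, Out (T i)) := MonoidHom.pi θ
  have hΘ : (Θ.ker).map σ.ker.subtype ≤ R ⊔ centralizer (N : Set G) := by
    rintro _ ⟨k, hk, rfl⟩
    have h1 : ∀ i, θ i k = 1 := fun i => congrFun (MonoidHom.mem_ker.mp hk) i
    exact (sup_le_sup_right hNR _) (hker k h1)
  have h1 : (R ⊔ centralizer (N : Set G)).relIndex σ.ker ≤ ∏ i, Nat.card (Out (T i)) := by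
    have h2 : ((Θ.ker).map σ.ker.subtype).relIndex σ.ker = Nat.card Θ.range := by
      have h3 : ((Θ.ker).map σ.ker.subtype).relIndex σ.ker = Θ.ker.index := by
        rw [relIndex, subgroupOf, Subgroup.comap_map_eq_self_of_injective σ.ker.subtype_injective]
      rw [h3, Subgroup.index_ker]
    have h4 : (R ⊔ centralizer (N : Set G)).relIndex σ.ker
        ≤ ((Θ.ker).map σ.ker.subtype).relIndex σ.ker := by
      apply relIndex_le_of_le_left hΘ
      rw [h2]
      exact Nat.card_pos.ne'
    refine h4.trans ?_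
    rw [h2, ← Nat.card_pi]
    exact Nat.card_le_card_of_injective (fun x => (x : ∀ i, Out (T i))) Subtype.val_injective
  -- index of the image
  have hcent : (centralizer (N : Set G)).Normal := inferInstance
  have hsupn : (R ⊔ centralizer (N : Set G)).Normal := inferInstance
  have h5 : (R ⊔ σ.ker).index ^ 3 ≤ 24 ^ (m - 1) := by
    have hne : Nonempty (Fin m) := ⟨⟨0, hm⟩⟩
    have hsurj := MonoidHom.rangeRestrict_surjective σ
    have hn : (R.map σ.rangeRestrict).Normal := hR.map _ hsurj
    have hsol : Group.IsSolvable (σ.range ⧸ R.map σ.rangeRestrict) := by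
      have hq : Function.Surjective (QuotientGroup.map R (R.map σ.rangeRestrict) σ.rangeRestrict
          (Subgroup.le_comap_map _ _)) := by
        intro x
        obtain ⟨y, rfl⟩ := QuotientGroup.mk'_surjective _ x
        obtain ⟨g, rfl⟩ := hsurj y
        exact ⟨QuotientGroup.mk g, rfl⟩
      exact Group.isSolvable_of_surjective hq
    have h6 := index_pow_three_le σ.range (R.map σ.rangeRestrict) hsol
    rw [Nat.card_fin, Subgroup.index_map, MonoidHom.range_eq_top_of_surjective _ hsurj, index_top, mul_one,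
      MonoidHom.ker_rangeRestrict] at h6
    exact h6
  have hcK : centralizer (N : Set G) ≤ σ.ker := by
    intro g hg
    rw [MonoidHom.mem_ker]
    ext i
    have h6 : (T i).map (MulAut.conj g).toMonoidHom = T i := by
      ext x
      rw [mem_map_conj]
      have h7 : ∀ y ∈ T i, g * y * g⁻¹ = y := by
        intro y hy
        have := mem_centralizer_iff.mp hg y (hTN i hy)
        rw [← this, mul_inv_cancel_right]
      constructor
      · intro hx
        have h8 := h7 _ hx
        have h9 : g * (g⁻¹ * x * g) * g⁻¹ = x := by group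
        rw [h9] at h8
        rw [h8]; exact hx
      · intro hx
        have h8 := h7 x hx
        have h9 : g⁻¹ * x * g = x := by
          conv_lhs => rw [← h8]
          group
        rw [h9]; exact hx
    rw [hσ] at h6
    exact congrArg Fin.val (hinj h6)
  have h7 : (R ⊔ centralizer (N : Set G)).index
      = (R ⊔ centralizer (N : Set G)).relIndex σ.ker * (R ⊔ σ.ker).index := by
    have h8 : (R ⊔ centralizer (N : Set G)) ⊔ σ.ker = R ⊔ σ.ker := by
      rw [sup_assoc, sup_eq_right.mpr hcK]
    rw [← relIndex_mul_index (le_sup_left : R ⊔ centralizer (N : Set G) ≤ (R ⊔ centralizer (N : Set G)) ⊔ σ.ker),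
      relIndex_sup_left, h8]
  rw [h7, mul_pow, Finset.prod_mul_distrib, Finset.prod_const, Finset.card_univ, Fintype.card_fin,
    Finset.prod_pow]
  have h9 : (24 : ℕ) ^ m = 24 * 24 ^ (m - 1) := by
    conv_lhs => rw [show m = (m - 1) + 1 by omega, pow_succ, mul_comm]
  rw [h9, mul_assoc, mul_comm (24 ^ (m - 1))]
  exact Nat.mul_le_mul_left _ (Nat.mul_le_mul (Nat.pow_le_pow_left h1 3) h5)

end

end Cfsg.Agent.H489
end

-- part: H489/Residual
section
/-!
# The order of the solvable residual of a finite group with trivial Fitting subgroup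

`main_bound`: assuming the bound `24 |Out S| ^ 3 ≤ |S| ^ ε`, `ε = log 192 / log 60`, for all nonabelian finite simple
groups, a nontrivial finite group `G` with `F(G) = 1` satisfies `24 |G : R| ^ 3 ≤ |R| ^ ε` for every normal subgroup
`R` with solvable quotient.
-/

set_option autoImplicit false

namespace Cfsg.Agent.H489

open Subgroup Cfsg

universe u

/-- The exponent. -/
noncomputable def eps : ℝ := Real.log 192 / Real.log 60

theorem eps_pos : 0 < eps := div_pos (Real.log_pos (by norm_num)) (Real.log_pos (by norm_num))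

/-- The bound for outer automorphism groups. -/
def OutBound : Prop := ∀ (S : Type u) [Group S] [Finite S] [IsSimpleGroup S],
  (¬ IsMulCommutative S) → (24 * (Nat.card (Out S) : ℝ) ^ 3) ≤ (Nat.card S : ℝ) ^ eps

theorem card_mul_card_le {G : Type u} [Group G] [Finite G] {A B R : Subgroup G} (hA : A ≤ R) (hB : B ≤ R)
    (h : A ⊓ B = ⊥) : Nat.card A * Nat.card B ≤ Nat.card R := by
  rw [← Nat.card_prod]
  refine Nat.card_le_card_of_injective (fun x : A × B => (⟨x.1 * x.2, R.mul_mem (hA x.1.2) (hB x.2.2)⟩ : R)) ?_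
  rintro ⟨a, b⟩ ⟨c, d⟩ hx
  have h1 : (a : G) * b = c * d := congrArg Subtype.val hx
  have h2 : (c : G)⁻¹ * a = d * (b : G)⁻¹ := by
    rw [inv_mul_eq_iff_eq_mul, ← mul_assoc, ← h1, mul_inv_cancel_right]
  have h3 : (c : G)⁻¹ * a ∈ A ⊓ B := ⟨A.mul_mem (A.inv_mem c.2) a.2, by
    rw [h2]; exact B.mul_mem d.2 (B.inv_mem b.2)⟩
  rw [h, mem_bot] at h3
  have h4 : (a : G) = c := (inv_mul_eq_one.mp h3).symm
  have h5 : (b : G) = d := by
    rw [h4] at h1
    exact mul_left_cancel h1
  exact Prod.ext (Subtype.ext h4) (Subtype.ext h5)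

/-- **Main bound.** -/
theorem main_bound (hOut : OutBound.{u}) (n : ℕ) : ∀ (G : Type u) [Group G] [Finite G], Nat.card G = n →
    Nontrivial G → fittingSubgroup G = ⊥ → ∀ (R : Subgroup G) [R.Normal], Group.IsSolvable (G ⧸ R) →
      24 * (R.index : ℝ) ^ 3 ≤ (Nat.card R : ℝ) ^ eps := by
  induction n using Nat.strong_induction_on with
  | _ n ih =>
  intro G _ _ hcard hnt hF R hR hs
  -- a minimal normal subgroup
  have hfin : {N : Subgroup G | N.Normal ∧ N ≠ ⊥}.Finite := Set.toFinite _
  obtain ⟨N, ⟨hNn, hN0⟩, hmin'⟩ := hfin.exists_minimal ⟨⊤, ⟨inferInstance, top_ne_bot⟩⟩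
  have hmin : ∀ M : Subgroup G, M.Normal → M ≤ N → M = ⊥ ∨ M = N := by
    intro M hM hMN
    by_cases h : M = ⊥
    · exact Or.inl h
    · exact Or.inr (le_antisymm hMN (hmin' ⟨hM, h⟩ hMN))
  obtain ⟨m, T, hm, hTN, hsimple, hTn, hconj, hcomm, hinj, hind, hsup⟩ :=
    Cfsg.Agent.Lib.MinNormal.exists_internal_decomposition N hN0 hmin
  -- abelian normal subgroups are trivial
  have hab : ∀ A : Subgroup G, A.Normal → (∀ a ∈ A, ∀ b ∈ A, a * b = b * a) → A = ⊥ := by
    intro A hA hAc
    rw [eq_bot_iff, ← hF]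
    apply Cfsg.Agent.Lib.Cores.le_fittingSubgroup hA
    let _ : CommGroup A := { (inferInstance : Group A) with
      mul_comm := fun a b => Subtype.ext (hAc a a.2 b b.2) }
    exact CommGroup.isNilpotent
  have hNna : ¬ ∀ a ∈ N, ∀ b ∈ N, a * b = b * a := fun h => hN0 (hab N hNn h)
  have hTna : ∀ i, ∃ a ∈ T i, ∃ b ∈ T i, a * b ≠ b * a := by
    intro i
    by_contra hcon
    push Not at hcon
    -- then all `T j` are abelian
    have h1 : ∀ j, ∀ a ∈ T j, ∀ b ∈ T j, a * b = b * a := by
      intro j a ha b hb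
      obtain ⟨g, hg⟩ := hconj i j
      rw [hg, mem_map_conj] at ha hb
      have h2 := hcon _ ha _ hb
      have h3 : g * ((g⁻¹ * a * g) * (g⁻¹ * b * g)) * g⁻¹ = g * ((g⁻¹ * b * g) * (g⁻¹ * a * g)) * g⁻¹ := by
        rw [h2]
      have h4 : g * ((g⁻¹ * a * g) * (g⁻¹ * b * g)) * g⁻¹ = a * b := by group
      have h5 : g * ((g⁻¹ * b * g) * (g⁻¹ * a * g)) * g⁻¹ = b * a := by group
      rw [h4, h5] at h3
      exact h3
    have h2 : ∀ j, N ≤ centralizer (T j : Set G) := by
      intro j
      rw [← hsup, iSup_le_iff]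
      intro k x hx
      rw [mem_centralizer_iff]
      intro y hy
      by_cases hjk : k = j
      · subst hjk
        exact h1 k y hy x hx
      · exact ((hcomm k j hjk x hx y hy).eq).symm
    apply hNna
    intro a ha b hb
    have h3 : N ≤ centralizer {a} := by
      rw [← hsup, iSup_le_iff]
      intro k x hx
      rw [mem_centralizer_singleton_iff]
      exact mem_centralizer_iff.mp (h2 k ha) x hx
    exact (mem_centralizer_singleton_iff.mp (h3 hb)).symm
  -- `N ≤ R`
  have hNR : N ≤ R := by
    rcases hmin (N ⊓ R) inferInstance inf_le_left with h | h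
    · exfalso
      have hsolN : Group.IsSolvable N := by
        have hinjN : Function.Injective ((QuotientGroup.mk' R).comp N.subtype) := by
          rw [injective_iff_map_eq_one]
          intro x hx
          have h1 : (x : G) ∈ R := (QuotientGroup.eq_one_iff _).mp hx
          have h2 : (x : G) ∈ N ⊓ R := ⟨x.2, h1⟩
          rw [h, mem_bot] at h2
          exact Subtype.ext h2
        exact Group.isSolvable_of_isSolvable_injective hinjN
      have hi0 : IsSimpleGroup (T ⟨0, hm⟩) := hsimple _
      have hsolT : Group.IsSolvable (T ⟨0, hm⟩) :=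
        Group.isSolvable_of_isSolvable_injective (Subgroup.inclusion_injective (hTN ⟨0, hm⟩))
      have hcT := IsSimpleGroup.comm_iff_isSolvable.mpr hsolT
      obtain ⟨a, ha, b, hb, hab'⟩ := hTna ⟨0, hm⟩
      exact hab' (congrArg Subtype.val (hcT ⟨a, ha⟩ ⟨b, hb⟩))
    · exact inf_eq_left.mp h
  -- the core
  have hcore := core_index hm hNn hsup hsimple hTn hTna hcomm hinj R hR hs hNR
  have hcardN : Nat.card N = ∏ i, Nat.card (T i) := by
    obtain ⟨e⟩ := Cfsg.Agent.Lib.MinNormal.mulEquiv_pi_of_iSupIndep T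
      (fun i j hij x y hx hy => hcomm i j hij x hx y hy) hind hsup
    rw [Nat.card_congr e.toEquiv, Nat.card_pi]
  have hcoreR : 24 * ((R ⊔ centralizer (N : Set G)).index : ℝ) ^ 3 ≤ (Nat.card N : ℝ) ^ eps := by
    have h1 : (24 * ((R ⊔ centralizer (N : Set G)).index : ℝ) ^ 3)
        ≤ ∏ i, (24 * (Nat.card (Out (T i)) : ℝ) ^ 3) := by exact_mod_cast hcore
    refine h1.trans ?_
    rw [hcardN, Nat.cast_prod, ← Real.finsetProd_rpow _ _ (fun i _ => Nat.cast_nonneg _)]
    apply Finset.prod_le_prod
    · intro i _; (clear * -; positivity)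
    · intro i _
      have := hsimple i
      apply hOut (T i)
      intro hc
      obtain ⟨a, ha, b, hb, hab'⟩ := hTna i
      exact hab' (congrArg Subtype.val (hc.1.1 ⟨a, ha⟩ ⟨b, hb⟩))
  by_cases hM0 : centralizer (N : Set G) = ⊥
  · rw [hM0, sup_bot_eq] at hcoreR
    refine hcoreR.trans ?_
    apply Real.rpow_le_rpow (Nat.cast_nonneg _) _ eps_pos.le
    exact_mod_cast Nat.le_of_dvd Nat.card_pos (Subgroup.card_dvd_of_le hNR)
  · -- induction for the centralizer
    have hMnt : Nontrivial (centralizer (N : Set G)) := (Subgroup.nontrivial_iff_ne_bot _).mpr hM0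
    have hMF : fittingSubgroup (centralizer (N : Set G)) = ⊥ := by
      have h1 := Cfsg.Agent.Lib.Cores.map_subtype_fittingSubgroup
        (N := centralizer (N : Set G)) inferInstance
      rw [hF, inf_bot_eq] at h1
      exact (Subgroup.map_eq_bot_iff_of_injective _ (centralizer (N : Set G)).subtype_injective).mp h1
    have hNM : N ⊓ centralizer (N : Set G) = ⊥ := by
      apply hab
      · infer_instance
      · intro a ha b hb
        exact mem_centralizer_iff.mp hb.2 a ha.1
    have hMlt : Nat.card (centralizer (N : Set G)) < n := by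
      rw [← hcard]
      rcases lt_or_eq_of_le (Nat.le_of_dvd Nat.card_pos (Subgroup.card_subgroup_dvd_card (centralizer (N : Set G))))
        with h | h
      · exact h
      · exfalso
        have h1 : centralizer (N : Set G) = ⊤ := Subgroup.eq_top_of_card_eq _ h
        rw [h1, inf_top_eq] at hNM
        exact hN0 hNM
    have hsolM : Group.IsSolvable (centralizer (N : Set G) ⧸ R.subgroupOf (centralizer (N : Set G))) := by
      have hf : Function.Injective (QuotientGroup.map (R.subgroupOf (centralizer (N : Set G))) R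
          (centralizer (N : Set G)).subtype (by intro x hx; exact hx)) := by
        rw [injective_iff_map_eq_one]
        intro x hx
        obtain ⟨y, rfl⟩ := QuotientGroup.mk'_surjective _ x
        have h7 : (QuotientGroup.mk ((centralizer (N : Set G)).subtype y) : G ⧸ R) = 1 := hx
        rw [QuotientGroup.eq_one_iff] at h7
        exact (QuotientGroup.eq_one_iff y).mpr h7
      exact Group.isSolvable_of_isSolvable_injective hf
    have hih := ih _ hMlt (centralizer (N : Set G)) rfl hMnt hMF (R.subgroupOf (centralizer (N : Set G)))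
      hsolM
    have hidx : R.index = (R ⊔ centralizer (N : Set G)).index * R.relIndex (centralizer (N : Set G)) := by
      rw [← relIndex_mul_index (le_sup_left : R ≤ R ⊔ centralizer (N : Set G)), relIndex_sup_left, mul_comm]
    have hcardR : Nat.card N * Nat.card (R.subgroupOf (centralizer (N : Set G))) ≤ Nat.card R := by
      have h1 : Nat.card (R.subgroupOf (centralizer (N : Set G))) = Nat.card (R ⊓ centralizer (N : Set G) : Subgroup G) := by
        rw [← Subgroup.subgroupOf_map_subtype]
        exact Nat.card_congr ((R.subgroupOf _).equivMapOfInjective _ (Subgroup.subtype_injective _)).toEquiv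
      rw [h1]
      apply card_mul_card_le hNR inf_le_left
      rw [inf_comm R, ← inf_assoc, hNM, bot_inf_eq]
    have hrel : ((R.subgroupOf (centralizer (N : Set G))).index : ℝ) = (R.relIndex (centralizer (N : Set G)) : ℝ) := rfl
    rw [hrel] at hih
    have hpos1 : (0 : ℝ) ≤ (R.relIndex (centralizer (N : Set G)) : ℝ) ^ 3 := by (clear * -; positivity)
    have hcardR' : ((Nat.card N : ℝ) * (Nat.card (R.subgroupOf (centralizer (N : Set G))) : ℝ)) ^ eps
        ≤ (Nat.card R : ℝ) ^ eps := by
      apply Real.rpow_le_rpow (by (clear * -; positivity)) _ eps_pos.le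
      exact_mod_cast hcardR
    rw [Real.mul_rpow (Nat.cast_nonneg _) (Nat.cast_nonneg _)] at hcardR'
    have hone : (0 : ℝ) ≤ (R.index : ℝ) ^ 3 := by (clear * -; positivity)
    rw [hidx, Nat.cast_mul, mul_pow]
    have hprod : (24 * ((R ⊔ centralizer (N : Set G)).index : ℝ) ^ 3) * (24 * (R.relIndex (centralizer (N : Set G)) : ℝ) ^ 3)
        ≤ (Nat.card N : ℝ) ^ eps * (Nat.card (R.subgroupOf (centralizer (N : Set G))) : ℝ) ^ eps := by
      apply mul_le_mul hcoreR hih (by (clear * -; positivity)) (by (clear * -; positivity))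
    have hnn : (0 : ℝ) ≤ ((R ⊔ centralizer (N : Set G)).index : ℝ) ^ 3 * (R.relIndex (centralizer (N : Set G)) : ℝ) ^ 3 := by
      (clear * -; positivity)
    linarith only [hcardR', hprod, hnn]

/-- **The residual**: `|G| ^ γ < |R|`. -/
theorem residual_bound (hOut : OutBound.{u}) {G : Type u} [Group G] [Finite G] [Nontrivial G]
    (hF : fittingSubgroup G = ⊥) (R : Subgroup G) [hR : R.Normal] (hs : Group.IsSolvable (G ⧸ R)) :
    (Nat.card G : ℝ) ^ (Real.log 60 / Real.log (120 * (24 : ℝ) ^ ((1 : ℝ) / 3))) < (Nat.card R : ℝ) := by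
  have h := main_bound hOut _ G rfl inferInstance hF R hs
  have hRpos : (0 : ℝ) < Nat.card R := by exact_mod_cast Nat.card_pos
  have hGR : (Nat.card G : ℝ) = (R.index : ℝ) * (Nat.card R : ℝ) := by
    rw [mul_comm]
    exact_mod_cast (Subgroup.card_mul_index R).symm
  have hipos : (0 : ℝ) < R.index := by
    exact_mod_cast Nat.pos_of_ne_zero Subgroup.index_ne_zero_of_finite
  have hlog60 : 0 < Real.log 60 := Real.log_pos (by norm_num)
  have hlog192 : 0 < Real.log 192 := Real.log_pos (by norm_num)
  -- the denominator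
  have hden : Real.log (120 * (24 : ℝ) ^ ((1 : ℝ) / 3)) = (3 * Real.log 60 + Real.log 192) / 3 := by
    rw [Real.log_mul (by norm_num) (by positivity), Real.log_rpow (by norm_num)]
    have h1 : Real.log 192 = 3 * Real.log 2 + Real.log 24 := by
      rw [show (192 : ℝ) = 2 ^ 3 * 24 by norm_num, Real.log_mul (by norm_num) (by norm_num), Real.log_pow]
      norm_num
    have h2 : Real.log 120 = Real.log 2 + Real.log 60 := by
      rw [show (120 : ℝ) = 2 * 60 by norm_num, Real.log_mul (by norm_num) (by norm_num)]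
    rw [h1, h2]; ring
  rw [hden]
  -- take logarithms
  have hlogR : 0 ≤ Real.log (Nat.card R) := Real.log_nonneg (by exact_mod_cast Nat.card_pos)
  have h2 : Real.log 24 + 3 * Real.log R.index ≤ eps * Real.log (Nat.card R) := by
    have h3 := Real.log_le_log (by positivity) h
    rw [Real.log_mul (by norm_num) (by positivity), Real.log_pow, Real.log_rpow hRpos] at h3
    exact_mod_cast h3
  have h24 : 0 < Real.log 24 := Real.log_pos (by norm_num)
  rw [Real.rpow_def_of_pos (by rw [hGR]; (clear * - hRpos hipos; positivity)), ← Real.lt_log_iff_exp_lt hRpos, hGR,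
    Real.log_mul hipos.ne' hRpos.ne']
  rw [div_div_eq_mul_div, mul_div_assoc', div_lt_iff₀ (by positivity)]
  have heps : eps * Real.log 60 = Real.log 192 := by
    unfold eps
    field_simp
  have h5 : 3 * Real.log R.index < eps * Real.log (Nat.card R) := by linarith only [h2, h24]
  have h6 : 3 * Real.log R.index * Real.log 60 < eps * Real.log (Nat.card R) * Real.log 60 :=
    mul_lt_mul_of_pos_right h5 hlog60
  have h7 : eps * Real.log (Nat.card R) * Real.log 60 = Real.log 192 * Real.log (Nat.card R) := by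
    rw [← heps]; ring
  rw [h7] at h6
  linarith only [h6]

end Cfsg.Agent.H489
end

-- part: H489/OutNum
section
/-!
# Numerical criterion for the bound `24 |Out S| ^ 3 ≤ |S| ^ ε`
-/

set_option autoImplicit false

namespace Cfsg.Agent.H489

open Subgroup Cfsg

theorem rpow_eps_sixty : (60 : ℝ) ^ eps = 192 := by
  rw [eps, Real.rpow_def_of_pos (by norm_num)]
  rw [mul_div_cancel₀ _ (Real.log_pos (by norm_num)).ne', Real.exp_log (by norm_num)]

theorem eps_ge : (6 / 5 : ℝ) ≤ eps := by
  rw [eps, div_le_div_iff₀ (by norm_num) (Real.log_pos (by norm_num))]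
  have h1 : Real.log ((60 : ℝ) ^ 6) ≤ Real.log ((192 : ℝ) ^ 5) := Real.log_le_log (by norm_num) (by norm_num)
  rw [Real.log_pow, Real.log_pow] at h1
  push_cast at h1
  linarith

/-- The numerical criterion. -/
theorem crit {o N : ℕ} (hN : 60 ≤ N) (h : 900 * o ^ 5 ≤ 8 * N ^ 2) : 24 * (o : ℝ) ^ 3 ≤ (N : ℝ) ^ eps := by
  have hN' : (60 : ℝ) ≤ N := by exact_mod_cast hN
  have h' : 900 * (o : ℝ) ^ 5 ≤ 8 * (N : ℝ) ^ 2 := by exact_mod_cast h
  have h60 : (N : ℝ) ^ eps = 192 * ((N : ℝ) / 60) ^ eps := by
    rw [Real.div_rpow (by linarith only [hN']) (by norm_num), rpow_eps_sixty]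
    ring
  have h1 : (1 : ℝ) ≤ (N : ℝ) / 60 := by rw [le_div_iff₀ (by norm_num)]; linarith only [hN']
  have h2 : ((N : ℝ) / 60) ^ (6 / 5 : ℝ) ≤ ((N : ℝ) / 60) ^ eps := Real.rpow_le_rpow_of_exponent_le h1 eps_ge
  have h3 : ((o : ℝ) / 2) ^ 5 ≤ ((N : ℝ) / 60) ^ 2 := by
    rw [div_pow, div_pow, div_le_div_iff₀ (by norm_num) (by norm_num)]
    linarith only [h']
  have h4 : ((o : ℝ) / 2) ^ 3 ≤ ((N : ℝ) / 60) ^ (6 / 5 : ℝ) := by
    have ho : (0 : ℝ) ≤ (o : ℝ) / 2 := by positivity
    have h5 : (((o : ℝ) / 2) ^ 5) ^ (3 / 5 : ℝ) = ((o : ℝ) / 2) ^ 3 := by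
      rw [← Real.rpow_natCast, ← Real.rpow_mul ho, ← Real.rpow_natCast]
      norm_num
    have h6 : (((N : ℝ) / 60) ^ 2) ^ (3 / 5 : ℝ) = ((N : ℝ) / 60) ^ (6 / 5 : ℝ) := by
      rw [← Real.rpow_natCast, ← Real.rpow_mul (by positivity)]
      norm_num
    rw [← h5, ← h6]
    exact Real.rpow_le_rpow (by (clear * -; positivity)) h3 (by norm_num)
  rw [h60]
  have h7 : 24 * (o : ℝ) ^ 3 = 192 * ((o : ℝ) / 2) ^ 3 := by ring
  rw [h7]
  have := h4.trans h2
  linarith only [h2, h4]

/-- `2 f ≤ q` for `q = p ^ f`. -/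
theorem two_mul_le {p f : ℕ} (hp : 2 ≤ p) (hf : 1 ≤ f) : 2 * f ≤ p ^ f := by
  have h1 : 2 ^ f ≤ p ^ f := Nat.pow_le_pow_left hp f
  have h2 : 2 * f ≤ 2 ^ f := by
    obtain ⟨k, rfl⟩ : ∃ k, f = k + 1 := ⟨f - 1, by omega⟩
    rw [pow_succ]
    have : k < 2 ^ k := Nat.lt_two_pow_self
    omega
  omega

end Cfsg.Agent.H489
end

-- part: H489/OutAll
section
/-!
# `900 |Out S| ^ 5 ≤ 8 |S| ^ 2` for every known nonabelian finite simple group `S`
-/

set_option autoImplicit false

namespace Cfsg.Agent.H489

open Subgroup Cfsg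

universe u

theorem sixty_le {S : Type*} [Group S] [Finite S] [IsSimpleGroup S] (hna : ¬ IsMulCommutative S) :
    60 ≤ Nat.card S := by
  by_contra h
  have h1 := S0493.result (G := S) (fun hc => hna (by
    have := hc
    exact IsCyclic.isMulCommutative)) (by omega)
  omega

theorem ok_of_le_two {S : Type*} [Group S] (h60 : 60 ≤ Nat.card S) (h : Nat.card (Out S) ≤ 2) : OutOK S := by
  unfold OutOK
  have h1 : Nat.card (Out S) ^ 5 ≤ 2 ^ 5 := Nat.pow_le_pow_left h 5
  have h2 : 60 ^ 2 ≤ Nat.card S ^ 2 := Nat.pow_le_pow_left h60 2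
  omega

/-- **`900 |Out S| ^ 5 ≤ 8 |S| ^ 2` for every known nonabelian finite simple group `S`.** -/
theorem ok_known {S : Type*} [Group S] [Finite S] [IsSimpleGroup S] (hna : ¬ IsMulCommutative S)
    (h : IsKnownSimple' S) : OutOK S := by
  have h60 := sixty_le hna
  rcases h with h | h | h | h | h | h | h | h | h | h
  · exfalso
    apply hna
    have h1 : Fact (Nat.card S).Prime := ⟨h⟩
    have h2 : IsCyclic S := isCyclic_of_prime_card (p := Nat.card S) rfl
    exact IsCyclic.isMulCommutative
  · obtain ⟨n, hn, ⟨e⟩⟩ := h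
    by_cases h6 : n = 6
    · subst h6
      exact ok_psl hna (isPSL_alt_six e)
    · refine ok_of_le_two h60 ?_
      rw [H55.OutGen.card_out_congr e, card_out_alt hn h6]
  · exact ok_psl hna h
  · exact ok_psp hna h
  · exact ok_psu hna h
  · exact ok_omega_odd hna h
  · exact ok_omega_plus hna h
  · exact ok_omega_minus hna h
  · rcases h with h | h | h | h | h | h | h | h | h | h | h
    · exact ok_g2 h
    · exact ok_f4 h
    · exact ok_e6 h
    · exact ok_e7 h
    · exact ok_e8 h
    · exact ok_2e6 h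
    · exact ok_3d4 h
    · exact ok_sz h
    · exact ok_ree h
    · exact ok_2f4 h
    · exact ok_of_le_two h60 (card_out_tits h)
  · exact ok_of_le_two h60 (card_out_sporadic h)

theorem outBound (hS : ∀ (S : Type u) [Group S] [Finite S] [IsSimpleGroup S], IsKnownSimple' S) : OutBound.{u} := by
  intro S _ _ _ hna
  exact crit (sixty_le hna) (ok_known hna (hS S))

/-- the last term of the derived series -/
theorem exists_derivedSeries (G : Type*) [Group G] [Finite G] :
    ∃ N : ℕ, (⨅ n : ℕ, derivedSeries G n) = derivedSeries G N := by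
  obtain ⟨N, hN⟩ : ∃ N : ℕ, ∀ n, Nat.card (derivedSeries G N) ≤ Nat.card (derivedSeries G n) := by
    have h := WellFounded.has_min (r := (· < · : ℕ → ℕ → Prop)) wellFounded_lt
      (Set.range fun n => Nat.card (derivedSeries G n)) ⟨_, 0, rfl⟩
    obtain ⟨_, ⟨N, rfl⟩, h⟩ := h
    exact ⟨N, fun n => not_lt.1 (h _ ⟨n, rfl⟩)⟩
  refine ⟨N, le_antisymm (iInf_le _ N) (le_iInf fun n => ?_)⟩
  rcases le_total n N with h | h
  · exact derivedSeries_antitone G h
  · exact (Subgroup.eq_of_le_of_card_ge (derivedSeries_antitone G h) (hN n)).ge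

theorem solvable_quotient_derivedSeries (G : Type*) [Group G] (N : ℕ) :
    Group.IsSolvable (G ⧸ derivedSeries G N) := by
  refine ⟨N, ?_⟩
  rw [← map_derivedSeries_eq (f := QuotientGroup.mk' (derivedSeries G N)) (QuotientGroup.mk'_surjective _) N,
    eq_bot_iff, map_le_iff_le_comap]
  intro x hx
  rw [mem_comap, mem_bot]
  exact (QuotientGroup.eq_one_iff x).2 hx

end Cfsg.Agent.H489
end

private theorem dce_1e05b018e657 : _root_.True := by
  try have : _root_.True := by simp only [_root_.Cfsg.Agent.H489.eps.eq_1]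
  exact _root_.True.intro
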